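import Groth.Agent.Giraud.SheafAxioms

/-! # Transferring the exactness axioms along a jointly conservative pair of functors -/

set_option autoImplicit false
set_option linter.all false
set_option backward.isDefEq.respectTransparency false
set_option backward.defeqAttrib.useBackward true

universe v v₁ v₂ u

open CategoryTheory CategoryTheory.Limits

namespace Groth.Agent.Giraud

section

variable {E : Type v} [Category.{u} E] [HasPullbacks E]

lemma isPushout_kernelPair_of_effectiveEpi {A B K : E} {f : A ⟶ B} [EffectiveEpi f] {a b : K ⟶ A}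
    (h : IsPullback a b f f) : IsPushout a b f f := by
  refine ⟨⟨h.w⟩, ⟨PushoutCocone.IsColimit.mk _ (fun s => EffectiveEpi.desc f s.inl (fun {Z} g₁ g₂ hg => ?_))
    (fun s => EffectiveEpi.fac _ _ _) (fun s => ?_) (fun s m h₁ _ => EffectiveEpi.uniq f _ _ m h₁)⟩⟩
  · have hd : s.inl = s.inr := by
      have := congrArg (h.lift (𝟙 A) (𝟙 A) rfl ≫ ·) s.condition
      simpa using this
    have := congrArg (h.lift g₁ g₂ hg ≫ ·) s.condition
    simpa [← hd] using this
  · have hd : s.inl = s.inr := by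
      have := congrArg (h.lift (𝟙 A) (𝟙 A) rfl ≫ ·) s.condition
      simpa using this
    rw [EffectiveEpi.fac, hd]

lemma effectiveEpi_of_isPushout_kernelPair {A B K : E} {f : A ⟶ B} {a b : K ⟶ A}
    (hw : a ≫ f = b ≫ f) (h : IsPushout a b f f) : EffectiveEpi f :=
  ⟨⟨{ desc := fun e he => h.desc e e (he a b hw)
      fac := fun e he => h.inl_desc _ _ _
      uniq := fun e he m hm => h.hom_ext (by rw [h.inl_desc, hm]) (by rw [h.inr_desc, hm]) }⟩⟩

lemma nonempty_equivalenceRelation {R A : E} {p₁ p₂ : R ⟶ A} (h : SGA4.IsEquivRel p₁ p₂) :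
    Nonempty (EquivalenceRelation p₁ p₂) := by
  have hr := (h A).2.refl (𝟙 A)
  have hs := (h R).2.symm (x := p₁) (y := p₂) ⟨𝟙 R, Category.id_comp _, Category.id_comp _⟩
  have ht := (h (pullback p₂ p₁)).2.trans (x := pullback.fst p₂ p₁ ≫ p₁) (y := pullback.fst p₂ p₁ ≫ p₂)
    (z := pullback.snd p₂ p₁ ≫ p₂) ⟨pullback.fst p₂ p₁, rfl, rfl⟩ ⟨pullback.snd p₂ p₁, pullback.condition.symm, rfl⟩
  haveI : JointlyMono₂ p₁ p₂ := ⟨fun T f g h₁ h₂ => (h T).1 (Prod.ext h₁ h₂)⟩
  exact ⟨{ r := hr.choose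
           reflexivity₁ := hr.choose_spec.1
           reflexivity₂ := hr.choose_spec.2
           s := hs.choose
           symmetry₁ := hs.choose_spec.1
           symmetry₂ := hs.choose_spec.2
           c := PullbackCone.mk (pullback.fst p₂ p₁) (pullback.snd p₂ p₁) pullback.condition
           isLimit := pullbackIsPullback _ _
           t := ht.choose
           transitivity₁ := ht.choose_spec.1
           transitivity₂ := ht.choose_spec.2 }⟩

/-- equivalence relations are effective, with universally effective quotients -/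
structure Exact (D : Type v) [Category.{u} D] [HasPullbacks D] : Prop where
  eff : ∀ {R A : D} {p₁ p₂ : R ⟶ A}, EquivalenceRelation p₁ p₂ → Nonempty (EffectiveEquivalenceRelation p₁ p₂)
  univ : ∀ {A B B' P : D} {π : A ⟶ B} {g : B' ⟶ B} {a : P ⟶ A} {b : P ⟶ B'}, Epi π → IsPullback a b π g → EffectiveEpi b
  vk : ∀ {κ : Type u} {F : Discrete κ ⥤ D} (c : Cocone F), IsColimit c → IsVanKampenColimit c

end

lemma sheaf_exact {C : Type u} [SmallCategory C] (J : GrothendieckTopology C) : Exact (Sheaf J (Type u)) where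
  eff e := SiteBase.sheaf_effectiveEquivalenceRelation e
  univ {A B B' P π g a b} hπ h := SiteBase.sheaf_universally_effectiveEpi π _ _ _ h.flip
  vk c hc := sheaf_cofan_isVanKampen c hc

section aux

universe v₀

variable {E : Type v} [Category.{u} E] {D : Type v₀} [Category.{u} D] (P : E ⥤ D)

lemma aux_pullback [HasPullbacks E] [PreservesLimitsOfShape WalkingCospan P] {K A B Z : E} {a : K ⟶ A}
    {b : K ⟶ B} {f : A ⟶ Z} {g : B ⟶ Z} (hw : a ≫ f = b ≫ g)
    (h : IsPullback (P.map a) (P.map b) (P.map f) (P.map g)) : IsIso (P.map (pullback.lift a b hw)) := by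
  have h' := (IsPullback.of_hasPullback f g).map P
  have : P.map (pullback.lift a b hw) = (h.isoIsPullback _ _ h').hom := h'.hom_ext
    (by rw [IsPullback.isoIsPullback_hom_fst, ← P.map_comp, pullback.lift_fst])
    (by rw [IsPullback.isoIsPullback_hom_snd, ← P.map_comp, pullback.lift_snd])
  rw [this]
  infer_instance

lemma aux_pushout [HasColimitsOfShape WalkingSpan E] [PreservesColimitsOfShape WalkingSpan P] {K A B Z : E}
    {a : K ⟶ A} {b : K ⟶ B} {f : A ⟶ Z} {g : B ⟶ Z} (hw : a ≫ f = b ≫ g)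
    (h : IsPushout (P.map a) (P.map b) (P.map f) (P.map g)) : IsIso (P.map (pushout.desc f g hw)) := by
  have h' := (IsPushout.of_hasPushout a b).map P
  have : P.map (pushout.desc f g hw) = (h'.isoIsPushout _ _ h).hom := h'.hom_ext
    (by rw [IsPushout.inl_isoIsPushout_hom, ← P.map_comp, pushout.inl_desc])
    (by rw [IsPushout.inr_isoIsPushout_hom, ← P.map_comp, pushout.inr_desc])
  rw [this]
  infer_instance

lemma aux_colimit {κ : Type u} {F : Discrete κ ⥤ E} [HasColimit F] [PreservesColimitsOfShape (Discrete κ) P]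
    (c : Cocone F) (h : IsColimit (P.mapCocone c)) : IsIso (P.map ((colimit.isColimit F).desc c)) := by
  have h' := isColimitOfPreserves P (colimit.isColimit F)
  have : P.map ((colimit.isColimit F).desc c) = (h'.coconePointUniqueUpToIso h).hom := h'.hom_ext (fun j => by
    rw [IsColimit.comp_coconePointUniqueUpToIso_hom]
    show P.map _ ≫ P.map _ = P.map _
    rw [← P.map_comp, IsColimit.fac])
  rw [this]
  infer_instance

lemma aux_vk [PreservesColimitsOfSize.{u, u} P] [PreservesLimitsOfShape WalkingCospan P]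
    {κ : Type u} {F F' : Discrete κ ⥤ E} {c : Cocone F} (hc : IsColimit c) (c' : Cocone F') (α : F' ⟶ F)
    (f : c'.pt ⟶ c.pt) (e : α ≫ c.ι = c'.ι ≫ (Functor.const _).map f)
    (hD : ∀ {F : Discrete κ ⥤ D} (c : Cocone F), IsColimit c → IsVanKampenColimit c) :
    Nonempty (IsColimit (P.mapCocone c')) ↔
      ∀ j, IsPullback (P.map (c'.ι.app j)) (P.map (α.app j)) (P.map f) (P.map (c.ι.app j)) :=
  hD _ (isColimitOfPreserves P hc) (P.mapCocone c') (Functor.whiskerRight α P) (P.map f)
    (by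
      ext j
      show P.map _ ≫ P.map _ = P.map _ ≫ P.map _
      rw [← P.map_comp, ← P.map_comp]
      exact congrArg P.map (NatTrans.congr_app e j)) (NatTrans.Equifibered.of_discrete _)

lemma aux_quotient [HasFiniteLimits E] [HasFiniteLimits D] [PreservesFiniteLimits P]
    [PreservesColimitsOfShape WalkingSpan P] (HD : Exact D) {R A B : E} {p₁ p₂ : R ⟶ A} {π : A ⟶ B}
    (e : EquivalenceRelation p₁ p₂) (hpo : IsPushout p₁ p₂ π π) :
    IsPullback (P.map p₁) (P.map p₂) (P.map π) (P.map π) ∧ Epi (P.map π) := by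
  haveI : Mono (prod.lift p₁ p₂) := ⟨fun a b hab => e.right_cancellation a b
    (by simpa using congrArg (· ≫ prod.fst) hab) (by simpa using congrArg (· ≫ prod.snd) hab)⟩
  haveI : JointlyMono₂ (P.map p₁) (P.map p₂) := ⟨fun T a b ha hb => by
    rw [← cancel_mono (P.map (prod.lift p₁ p₂))]
    apply (mapIsLimitOfPreservesOfIsLimit P prod.fst prod.snd (prodIsProd A A)).hom_ext
    rintro ⟨_ | _⟩
    · show (a ≫ _) ≫ P.map prod.fst = (b ≫ _) ≫ P.map prod.fst
      rw [Category.assoc, Category.assoc, ← P.map_comp, prod.lift_fst, ha]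
    · show (a ≫ _) ≫ P.map prod.snd = (b ≫ _) ≫ P.map prod.snd
      rw [Category.assoc, Category.assoc, ← P.map_comp, prod.lift_snd, hb]⟩
  obtain ⟨E'⟩ := HD.eff
    { __ := e.toReflexiveRelation.map P
      __ := e.toSymmetricRelation.map P
      __ := e.toTransitiveRelation.map P : EquivalenceRelation (P.map p₁) (P.map p₂) }
  have hP := hpo.map P
  refine ⟨?_, ⟨fun x y hxy => hP.hom_ext hxy hxy⟩⟩
  exact IsPullback.of_iso E'.isKernelPair (Iso.refl _) (Iso.refl _) (Iso.refl _) (E'.isPushout.isoIsPushout _ _ hP)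
    (by simp) (by simp) (by simp) (by simp)

end aux

variable {E : Type v} [Category.{u} E] [HasFiniteLimits E] [HasColimitsOfSize.{u, u} E]
  {D₁ : Type v₁} [Category.{u} D₁] [HasFiniteLimits D₁] {D₂ : Type v₂} [Category.{u} D₂] [HasFiniteLimits D₂]
  (P₁ : E ⥤ D₁) (P₂ : E ⥤ D₂) [PreservesFiniteLimits P₁] [PreservesFiniteLimits P₂]
  [PreservesColimitsOfSize.{u, u} P₁] [PreservesColimitsOfSize.{u, u} P₂]
  [HasColimitsOfShape WalkingSpan E] [PreservesColimitsOfShape WalkingSpan P₁] [PreservesColimitsOfShape WalkingSpan P₂]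

/-- the pair of functors reflects isomorphisms -/
def Conservative : Prop := ∀ ⦃X Y : E⦄ (f : X ⟶ Y), IsIso (P₁.map f) → IsIso (P₂.map f) → IsIso f

variable {P₁ P₂} (hiso : Conservative P₁ P₂)
include hiso

lemma isPullback_of_map {K A B Z : E} {a : K ⟶ A} {b : K ⟶ B} {f : A ⟶ Z} {g : B ⟶ Z} (hw : a ≫ f = b ≫ g)
    (h₁ : IsPullback (P₁.map a) (P₁.map b) (P₁.map f) (P₁.map g))
    (h₂ : IsPullback (P₂.map a) (P₂.map b) (P₂.map f) (P₂.map g)) : IsPullback a b f g := by
  let l : K ⟶ pullback f g := pullback.lift a b hw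
  haveI : IsIso l := hiso l (aux_pullback P₁ hw h₁) (aux_pullback P₂ hw h₂)
  exact (IsPullback.of_hasPullback f g).of_iso (asIso l).symm (Iso.refl _) (Iso.refl _) (Iso.refl _)
    (by simp [l, IsIso.inv_comp_eq]) (by simp [l, IsIso.inv_comp_eq]) (by simp) (by simp)

lemma isPushout_of_map {K A B Z : E} {a : K ⟶ A} {b : K ⟶ B} {f : A ⟶ Z} {g : B ⟶ Z} (hw : a ≫ f = b ≫ g)
    (h₁ : IsPushout (P₁.map a) (P₁.map b) (P₁.map f) (P₁.map g))
    (h₂ : IsPushout (P₂.map a) (P₂.map b) (P₂.map f) (P₂.map g)) : IsPushout a b f g := by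
  let l : pushout a b ⟶ Z := pushout.desc f g hw
  haveI : IsIso l := hiso l (aux_pushout P₁ hw h₁) (aux_pushout P₂ hw h₂)
  exact (IsPushout.of_hasPushout a b).of_iso (Iso.refl _) (Iso.refl _) (Iso.refl _) (asIso l)
    (by simp) (by simp) (by simp [l]) (by simp [l])

lemma isColimit_of_map {κ : Type u} {F : Discrete κ ⥤ E} (c : Cocone F)
    (h₁ : IsColimit (P₁.mapCocone c)) (h₂ : IsColimit (P₂.mapCocone c)) : Nonempty (IsColimit c) := by
  let l : colimit F ⟶ c.pt := (colimit.isColimit F).desc c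
  haveI : IsIso l := hiso l (aux_colimit P₁ c h₁) (aux_colimit P₂ c h₂)
  exact ⟨(colimit.isColimit F).ofIsoColimit (Cocone.ext (asIso l) (fun j => (colimit.isColimit F).fac c j))⟩

variable (H₁ : Exact D₁) (H₂ : Exact D₂)
include H₁ H₂

lemma isVanKampen {κ : Type u} {F : Discrete κ ⥤ E} (c : Cocone F) (hc : IsColimit c) : IsVanKampenColimit c := by
  intro F' c' α f e hα
  have hm₁ := aux_vk P₁ hc c' α f e H₁.vk
  have hm₂ := aux_vk P₂ hc c' α f e H₂.vk
  constructor
  · rintro ⟨hc'⟩ j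
    exact isPullback_of_map hiso (NatTrans.congr_app e j).symm (hm₁.1 ⟨isColimitOfPreserves P₁ hc'⟩ j)
      (hm₂.1 ⟨isColimitOfPreserves P₂ hc'⟩ j)
  · intro h
    exact isColimit_of_map hiso c' (hm₁.2 fun j => (h j).map P₁).some (hm₂.2 fun j => (h j).map P₂).some

lemma hasDisjointUniversalCoproducts : SGA4.HasDisjointUniversalCoproducts.{v, u} E := by
  intro κ X
  refine ⟨Cofan.mk (∐ X) (Sigma.ι X), coproductIsCoproduct X, ⟨?_, ?_⟩,
    (isVanKampen hiso H₁ H₂ _ (coproductIsCoproduct X)).isUniversal⟩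
  · intro c hc i j hij s hs
    have h := isPullback_initial_to_of_cofan_isVanKampen (isVanKampen hiso H₁ H₂ c hc) ⟨i⟩ ⟨j⟩
      (fun e => hij (congrArg Discrete.as e))
    exact ⟨initialIsInitial.ofIso (IsLimit.conePointUniqueUpToIso h.isLimit hs)⟩
  · intro c hc i
    exact mono_of_cofan_isVanKampen (isVanKampen hiso H₁ H₂ c hc) ⟨i⟩

lemma isEffectiveUniversal {R A : E} (p₁ p₂ : R ⟶ A) (h : SGA4.IsEquivRel p₁ p₂) :
    SGA4.IsEffectiveUniversalEquivRel p₁ p₂ := by
  obtain ⟨e⟩ := nonempty_equivalenceRelation h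
  let π : A ⟶ pushout p₁ p₂ := pushout.inl p₁ p₂
  have hπ : pushout.inr p₁ p₂ = π := by
    have := congrArg (e.r ≫ ·) (pushout.condition (f := p₁) (g := p₂))
    simpa using this.symm
  have hpo : IsPushout p₁ p₂ π π := by
    have := IsPushout.of_hasPushout p₁ p₂
    rwa [hπ] at this
  obtain ⟨h₁, hepi₁⟩ := aux_quotient P₁ H₁ e hpo
  obtain ⟨h₂, hepi₂⟩ := aux_quotient P₂ H₂ e hpo
  refine ⟨_, π, isPullback_of_map hiso hpo.w h₁ h₂, hpo, fun B' g => ?_⟩
  have hsq := IsPullback.of_hasPullback π g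
  have hk := IsPullback.of_hasPullback (pullback.snd π g) (pullback.snd π g)
  refine effectiveEpi_of_isPushout_kernelPair hk.w (isPushout_of_map hiso hk.w ?_ ?_)
  · haveI := H₁.univ hepi₁ (hsq.map P₁)
    exact isPushout_kernelPair_of_effectiveEpi (hk.map P₁)
  · haveI := H₂.univ hepi₂ (hsq.map P₂)
    exact isPushout_kernelPair_of_effectiveEpi (hk.map P₂)

end Groth.Agent.Giraud
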