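import Groth.Agent.Giraud.Site
import Groth.Agent.Giraud.Transfer
import Mathlib.CategoryTheory.Limits.Comma
import Mathlib.CategoryTheory.Presentable.Presheaf
import Mathlib.CategoryTheory.Presentable.Type
import Mathlib.CategoryTheory.Sites.Subsheaf
import Mathlib.CategoryTheory.Sites.EpiMono

/-! # The glued category of two topoi along a left exact accessible functor is a topos -/

set_option autoImplicit false
set_option linter.all false
set_option backward.isDefEq.respectTransparency false
set_option backward.defeqAttrib.useBackward true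

universe v₁ v₂ u₁ u₂ u

open CategoryTheory CategoryTheory.Limits Opposite

namespace Groth.Agent.Giraud

section comma

variable {A : Type u₁} [Category.{v₁} A] {B : Type u₂} [Category.{v₂} B] (ρ : B ⥤ A)

lemma comma_conservative : ∀ ⦃X Y : Comma (𝟭 A) ρ⦄ (f : X ⟶ Y),
    IsIso f.left → IsIso f.right → IsIso f := by
  intro X Y f h₁ h₂
  have : f = (Comma.isoMk (asIso f.left) (asIso f.right) f.w).hom := by ext <;> rfl
  rw [this]
  infer_instance

lemma preservesFiniteLimits_fst [HasFiniteLimits A] [HasFiniteLimits B] [PreservesFiniteLimits ρ] :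
    PreservesFiniteLimits (Comma.fst (𝟭 A) ρ) :=
  ⟨fun J _ _ => ⟨fun {F} => preservesLimit_of_preserves_limit_cone
    (Comma.coneOfPreservesIsLimit F (limit.isLimit _) (limit.isLimit _))
    ((limit.isLimit (F ⋙ Comma.fst (𝟭 A) ρ)).ofIsoLimit (Cone.ext (Iso.refl _) (fun j => by simp [Comma.coneOfPreserves])))⟩⟩

lemma preservesFiniteLimits_snd [HasFiniteLimits A] [HasFiniteLimits B] [PreservesFiniteLimits ρ] :
    PreservesFiniteLimits (Comma.snd (𝟭 A) ρ) :=
  ⟨fun J _ _ => ⟨fun {F} => preservesLimit_of_preserves_limit_cone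
    (Comma.coneOfPreservesIsLimit F (limit.isLimit _) (limit.isLimit _))
    ((limit.isLimit (F ⋙ Comma.snd (𝟭 A) ρ)).ofIsoLimit (Cone.ext (Iso.refl _) (fun j => by simp [Comma.coneOfPreserves])))⟩⟩

end comma

variable {D : Type u} [SmallCategory D] {K : GrothendieckTopology D}

noncomputable def freeSheaf (d : D) : Sheaf K (Type u) := (presheafToSheaf K (Type u)).obj (yoneda.obj d)

noncomputable def freeSheafEquiv (d : D) (F : Sheaf K (Type u)) :
    (freeSheaf d ⟶ F) ≃ F.obj.obj (op d) :=
  ((sheafificationAdjunction K (Type u)).homEquiv (yoneda.obj d) F).trans yonedaEquiv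

lemma freeSheafEquiv_comp {d : D} {F G : Sheaf K (Type u)} (t : freeSheaf d ⟶ F) (φ : F ⟶ G) :
    freeSheafEquiv d G (t ≫ φ) = φ.hom.app (op d) (freeSheafEquiv d F t) := by
  simp only [freeSheafEquiv, Equiv.trans_apply, Adjunction.homEquiv_naturality_right]
  exact yonedaEquiv_comp _ _

/-- colimit legs of sheaves of sets are jointly locally surjective -/
lemma exists_cover_of_isColimit {J : Type*} [Category J] {F : J ⥤ Sheaf K (Type u)} (c : Cocone F)
    (hc : IsColimit c) {d : D} (s : c.pt.obj.obj (op d)) :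
    ∃ R ∈ K d, ∀ ⦃d' : D⦄ (g : d' ⟶ d), R g → ∃ (j : J) (t : (F.obj j).obj.obj (op d')),
      (c.ι.app j).hom.app (op d') t = c.pt.obj.map g.op s := by
  let G : Subfunctor c.pt.obj :=
    { obj := fun U => {x | ∃ (j : J) (t : (F.obj j).obj.obj U), (c.ι.app j).hom.app U t = x}
      map := by
        rintro U V i x ⟨j, t, rfl⟩
        exact ⟨j, (F.obj j).obj.map i t, NatTrans.naturality_apply (c.ι.app j).hom i t⟩ }
  have hpt : Presieve.IsSheaf K c.pt.obj := (isSheaf_iff_isSheaf_of_type _ _).1 c.pt.property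
  let S : Sheaf K (Type u) := ⟨(G.sheafify K).toFunctor,
    (isSheaf_iff_isSheaf_of_type _ _).2 (Subfunctor.sheafify_isSheaf G hpt)⟩
  let i : S ⟶ c.pt := ⟨(G.sheafify K).ι⟩
  have hle := Subfunctor.le_sheafify K G
  let leg : ∀ j, F.obj j ⟶ S := fun j =>
    ⟨{ app := fun U => ↾(fun t => ⟨(c.ι.app j).hom.app U t, hle U ⟨j, t, rfl⟩⟩)
       naturality := fun U V e => by
         ext t
         apply Subtype.ext
         exact NatTrans.naturality_apply (c.ι.app j).hom e t }⟩
  have hleg : ∀ j, leg j ≫ i = c.ι.app j := fun j => rfl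
  haveI : Mono i := (sheafToPresheaf _ _).mono_of_mono_map (f := i) (inferInstanceAs (Mono (G.sheafify K).ι))
  have hnat : ∀ {j j' : J} (g : j ⟶ j'), F.map g ≫ leg j' = leg j := fun {j j'} g => by
    rw [← cancel_mono i, Category.assoc, hleg, hleg, c.w]
  let cc : Cocone F :=
    { pt := S
      ι :=
        { app := leg
          naturality := fun j j' g => (hnat g).trans (Category.comp_id _).symm } }
  have hid : hc.desc cc ≫ i = 𝟙 _ := hc.hom_ext (fun j => by rw [hc.fac_assoc, Category.comp_id]; exact hleg j)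
  have hs : s ∈ (G.sheafify K).obj (op d) := by
    have := ConcreteCategory.congr_hom (congrArg (fun φ : c.pt ⟶ c.pt => (φ.hom.app (op d) : c.pt.obj.obj (op d) ⟶ c.pt.obj.obj (op d))) hid) s
    have h2 : ((hc.desc cc).hom.app (op d) s).1 = s := this
    exact h2 ▸ ((hc.desc cc).hom.app (op d) s).2
  exact ⟨_, hs, fun d' g hg => hg⟩

variable {C : Type u} [SmallCategory C] {J : GrothendieckTopology C}
  (ρ : Sheaf J (Type u) ⥤ Sheaf K (Type u))

lemma exists_generators [ρ.IsAccessible.{u}] :
    ∃ (ι : Type u) (Z : ι → Sheaf J (Type u)), ∀ (X : Sheaf J (Type u)) (d : D) (s : (ρ.obj X).obj.obj (op d)),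
      ∃ R ∈ K d, ∀ ⦃d' : D⦄ (g : d' ⟶ d), R g → ∃ (i : ι) (a : Z i ⟶ X) (t : (ρ.obj (Z i)).obj.obj (op d')),
        (ρ.map a).hom.app (op d') t = (ρ.obj X).obj.map g.op s := by
  obtain ⟨κ, _, _⟩ := Functor.IsAccessible.exists_cardinal.{u} (F := ρ)
  obtain ⟨P, hP, hgen⟩ := HasCardinalFilteredGenerator.exists_small_generator (Cᵒᵖ ⥤ Type u) κ
  haveI : Small.{u} (Subtype P) := hP
  let e := equivShrink.{u} (Subtype P)
  refine ⟨Shrink.{u} (Subtype P), fun i => (presheafToSheaf J (Type u)).obj (e.symm i).1, fun X d s => ?_⟩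
  obtain ⟨I, _, _, ⟨hI⟩⟩ := hgen.exists_colimitsOfShape X.obj
  haveI := ρ.preservesColimitsOfShape_of_isCardinalAccessible κ I
  haveI : PreservesColimitsOfSize.{u, u} (presheafToSheaf J (Type u)) :=
    (sheafificationAdjunction J (Type u)).leftAdjoint_preservesColimits
  let X' := (presheafToSheaf J (Type u)).obj X.obj
  let ε : X' ≅ X := asIso ((sheafificationAdjunction J (Type u)).counit.app X)
  let c := ρ.mapCocone ((presheafToSheaf J (Type u)).mapCocone hI.cocone)
  have hc : IsColimit c := isColimitOfPreserves ρ (isColimitOfPreserves (presheafToSheaf J (Type u)) hI.isColimit)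
  obtain ⟨R, hR, h⟩ := exists_cover_of_isColimit c hc ((ρ.map ε.inv).hom.app (op d) s)
  refine ⟨R, hR, fun d' g hg => ?_⟩
  obtain ⟨j, t, ht⟩ := h g hg
  obtain ⟨i, hi⟩ : ∃ i, (e.symm i).1 = hI.diag.obj j := ⟨e ⟨_, hI.prop_diag_obj j⟩, by simp⟩
  refine ⟨i, eqToHom (congrArg _ hi) ≫ (presheafToSheaf J (Type u)).map (hI.ι.app j) ≫ ε.hom,
    (ρ.map (eqToHom (congrArg _ hi.symm))).hom.app (op d') t, ?_⟩
  have h1 : ∀ {P Q R : Sheaf J (Type u)} (a : P ⟶ Q) (b : Q ⟶ R) (x : (ρ.obj P).obj.obj (op d')),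
      (ρ.map b).hom.app (op d') ((ρ.map a).hom.app (op d') x) = (ρ.map (a ≫ b)).hom.app (op d') x := by
    intro P Q R a b x; rw [ρ.map_comp]; rfl
  rw [h1, eqToHom_trans_assoc, eqToHom_refl, Category.id_comp, ← h1]
  refine (congrArg _ ht).trans ?_
  refine (NatTrans.naturality_apply (ρ.map ε.hom).hom g.op _).trans (congrArg _ ?_)
  show ((ρ.map ε.inv) ≫ (ρ.map ε.hom)).hom.app (op d) s = s
  rw [← ρ.map_comp, ε.inv_hom_id, ρ.map_id]
  rfl

lemma isIso_of_mono_of_surjective {X Y : Sheaf J (Type u)} (f : X ⟶ Y) [Mono f]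
    (h : ∀ c : C, Function.Surjective (f.hom.app (op c))) : IsIso f := by
  haveI : Sheaf.IsLocallyInjective f := Presheaf.isLocallyInjective_of_injective _ _ (fun U => by
    exact (mono_iff_injective _).1 (inferInstanceAs (Mono (f.hom.app U))))
  haveI : Sheaf.IsLocallySurjective f := ⟨fun {U} s => J.superset_covering
    (fun V g _ => h V _) (J.top_mem U)⟩
  exact (Sheaf.isLocallyBijective_iff_isIso f).mp ⟨‹_›, ‹_›⟩

theorem glued_isTopos [PreservesFiniteLimits ρ] [ρ.IsAccessible.{u}] :
    SGA4.IsTopos.{u + 1, u} (Comma (𝟭 (Sheaf K (Type u))) ρ) := by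
  let E := Comma (𝟭 (Sheaf K (Type u))) ρ
  let P₁ : E ⥤ Sheaf K (Type u) := Comma.fst _ ρ
  let P₂ : E ⥤ Sheaf J (Type u) := Comma.snd _ ρ
  haveI : PreservesFiniteLimits P₁ := preservesFiniteLimits_fst ρ
  haveI : PreservesFiniteLimits P₂ := preservesFiniteLimits_snd ρ
  haveI : PreservesColimitsOfSize.{u, u} P₁ := ⟨fun {I} _ => inferInstanceAs (PreservesColimitsOfShape I (Comma.fst _ ρ))⟩
  haveI : PreservesColimitsOfSize.{u, u} P₂ := ⟨fun {I} _ => inferInstanceAs (PreservesColimitsOfShape I (Comma.snd _ ρ))⟩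
  haveI : PreservesColimitsOfShape WalkingSpan P₁ := inferInstanceAs (PreservesColimitsOfShape _ (Comma.fst _ ρ))
  haveI : PreservesColimitsOfShape WalkingSpan P₂ := inferInstanceAs (PreservesColimitsOfShape _ (Comma.snd _ ρ))
  have hiso : Conservative P₁ P₂ := comma_conservative ρ
  obtain ⟨ι, Z, hZ⟩ := exists_generators ρ
  let gl : C ⊕ (Σ d : D, Σ i : ι, (freeSheaf d ⟶ ρ.obj (Z i))) → E := fun
    | .inl c => { left := ⊥_ _, right := freeSheaf c, hom := initial.to _ }
    | .inr ⟨d, i, t⟩ => { left := freeSheaf d, right := Z i, hom := t }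
  refine Axioms.isTopos
    { hb := hasDisjointUniversalCoproducts hiso (sheaf_exact K) (sheaf_exact J)
      hc := fun R A p₁ p₂ => isEffectiveUniversal hiso (sheaf_exact K) (sheaf_exact J) p₁ p₂
      ι := _, G := gl, det := ?_ }
  have detMono : ∀ ⦃X Y : E⦄ (f : X ⟶ Y), Mono f → (∀ i (h : gl i ⟶ Y), ∃ h', h' ≫ f = h) → IsIso f := by
    intro X Y f hf h
    haveI h1 : Mono f.left := inferInstanceAs (Mono (P₁.map f))
    haveI h2 : Mono f.right := inferInstanceAs (Mono (P₂.map f))
    haveI hr : IsIso f.right := isIso_of_mono_of_surjective f.right (fun c y => by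
      obtain ⟨h', hh⟩ := h (.inl c)
        { left := initial.to _, right := (freeSheafEquiv c Y.right).symm y, w := initial.hom_ext _ _ }
      refine ⟨freeSheafEquiv c X.right h'.right, ?_⟩
      rw [← freeSheafEquiv_comp]
      exact (Equiv.apply_eq_iff_eq_symm_apply _).2 (congrArg CommaMorphism.right hh))
    haveI : Sheaf.IsLocallyInjective f.left := Presheaf.isLocallyInjective_of_injective _ _ (fun U =>
      (mono_iff_injective _).1 (inferInstanceAs (Mono (f.left.hom.app U))))
    haveI : Sheaf.IsLocallySurjective f.left := ⟨fun {d} s => by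
      obtain ⟨R, hR, hR'⟩ := hZ Y.right d (Y.hom.hom.app (op d) s)
      refine K.superset_covering ?_ hR
      intro d' g hg
      obtain ⟨i, a, t, hat⟩ := hR' g hg
      obtain ⟨h', hh⟩ := h (.inr ⟨d', i, (freeSheafEquiv d' _).symm t⟩)
        { left := (freeSheafEquiv d' Y.left).symm (Y.left.obj.map g.op s)
          right := a
          w := by
            apply (freeSheafEquiv d' _).injective
            refine (freeSheafEquiv_comp _ _).trans (Eq.trans ?_ (freeSheafEquiv_comp _ _).symm)
            erw [Equiv.apply_symm_apply, Equiv.apply_symm_apply]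
            exact (NatTrans.naturality_apply Y.hom.hom g.op s).trans hat.symm }
      refine ⟨freeSheafEquiv d' X.left h'.left, ?_⟩
      rw [← freeSheafEquiv_comp]
      exact (Equiv.apply_eq_iff_eq_symm_apply _).2 (congrArg CommaMorphism.left hh)⟩
    exact hiso f ((Sheaf.isLocallyBijective_iff_isIso f.left).mp ⟨‹_›, ‹_›⟩) hr
  intro X Y f h
  haveI : IsIso (pullback.diagonal f) := detMono _ inferInstance (fun i a => ⟨a ≫ pullback.fst f f, by
    have hab : a ≫ pullback.fst f f = a ≫ pullback.snd f f :=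
      (h i (a ≫ pullback.fst f f ≫ f)).unique (Category.assoc _ _ _)
        (by rw [Category.assoc, ← pullback.condition])
    apply pullback.hom_ext
    · rw [Category.assoc, Category.assoc, pullback.diagonal_fst, Category.comp_id]
    · rw [Category.assoc, Category.assoc, pullback.diagonal_snd, Category.comp_id, hab]⟩)
  haveI : Mono f := ⟨fun a b hab => by
    rw [← pullback.lift_fst (f := f) (g := f) a b hab]
    conv_rhs => rw [← pullback.lift_snd (f := f) (g := f) a b hab]
    congr 1
    rw [← cancel_epi (pullback.diagonal f), pullback.diagonal_fst, pullback.diagonal_snd]⟩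
  exact detMono f inferInstance (fun i a => ⟨(h i a).choose, (h i a).choose_spec.1⟩)

end Groth.Agent.Giraud
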