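import Groth.Prelude.Def_SGA4a
import Groth.Agent.SiteBase.SetExact
import Mathlib.CategoryTheory.Limits.VanKampen
import Mathlib.CategoryTheory.Limits.Types.Coproducts
import Mathlib.CategoryTheory.Limits.FunctorCategory.Basic
import Mathlib.CategoryTheory.Sites.LeftExact

/-! # Sheaves of sets satisfy the axioms of Giraud -/

set_option autoImplicit false
set_option linter.all false
set_option backward.isDefEq.respectTransparency false
set_option backward.defeqAttrib.useBackward true

universe v u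

open CategoryTheory CategoryTheory.Limits Opposite

namespace Groth.Agent.Giraud

lemma types_cofan_isVanKampen {κ : Type u} {X : κ → Type u} (c : Cofan X) (hc : IsColimit c) :
    IsVanKampenColimit c := by
  intro F' c' α f e hα
  have he : ∀ (j : κ) (x : F'.obj ⟨j⟩), c.inj j (α.app ⟨j⟩ x) = f (c'.ι.app ⟨j⟩ x) := fun j x =>
    ConcreteCategory.congr_hom (NatTrans.congr_app e ⟨j⟩) x
  have hmk : F' = Discrete.functor (fun j => F'.obj ⟨j⟩) :=
    Functor.hext (fun i => rfl) (by rintro ⟨i⟩ ⟨j⟩ ⟨⟨rfl : i = j⟩⟩; simp)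
  generalize hY : (fun j => F'.obj ⟨j⟩) = Y at hmk
  clear hY
  subst hmk
  have hi := Cofan.inj_injective_of_isColimit hc
  constructor
  · rintro ⟨hc'⟩ ⟨j⟩
    rw [Types.isPullback_iff]
    refine ⟨(NatTrans.congr_app e ⟨j⟩).symm, fun a b h => Cofan.inj_injective_of_isColimit hc' j h.1, fun x z h => ?_⟩
    obtain ⟨k, x', rfl⟩ := Cofan.inj_jointly_surjective_of_isColimit hc' x
    have h' : c.inj k (α.app ⟨k⟩ x') = c.inj j z := (he k x').trans h
    obtain rfl := Cofan.eq_of_inj_apply_eq_of_isColimit hc _ _ h'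
    exact ⟨x', rfl, hi k h'⟩
  · intro H
    refine (Cofan.nonempty_isColimit_iff_bijective_fromSigma c').2 ⟨?_, fun x => ?_⟩
    · rintro ⟨k, a⟩ ⟨l, b⟩ h
      change Cofan.inj c' k a = Cofan.inj c' l b at h
      have h' : c.inj k (α.app ⟨k⟩ a) = c.inj l (α.app ⟨l⟩ b) :=
        ((he k a).trans (congrArg f h)).trans (he l b).symm
      obtain rfl := Cofan.eq_of_inj_apply_eq_of_isColimit hc _ _ h'
      exact Sigma.ext rfl (heq_of_eq (Types.ext_of_isPullback (H ⟨k⟩) h (hi k h')))
    · obtain ⟨k, z, hz⟩ := Cofan.inj_jointly_surjective_of_isColimit hc (f x)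
      obtain ⟨x', hx', -⟩ := Types.exists_of_isPullback (H ⟨k⟩) x z hz.symm
      exact ⟨⟨k, x'⟩, hx'⟩

lemma presheaf_cofan_isVanKampen {D : Type u} [Category.{u} D] {κ : Type u} {F : Discrete κ ⥤ D ⥤ Type u}
    (c : Cocone F) (hc : IsColimit c) : IsVanKampenColimit c := by
  refine isVanKampenColimit_of_evaluation F c (fun x => ?_)
  let e : Discrete.functor (fun k => (F.obj ⟨k⟩).obj x) ≅ F ⋙ (evaluation D (Type u)).obj x :=
    Discrete.natIso (fun _ => Iso.refl _)
  have := types_cofan_isVanKampen _ ((IsColimit.precomposeHomEquiv e _).symm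
    (isColimitOfPreserves ((evaluation D (Type u)).obj x) hc))
  exact (IsVanKampenColimit.precompose_isIso_iff e.hom).1 this

variable {C : Type u} [SmallCategory C] {J : GrothendieckTopology C}

lemma sheaf_cofan_isVanKampen {κ : Type u} {F : Discrete κ ⥤ Sheaf J (Type u)}
    (c : Cocone F) (hc : IsColimit c) : IsVanKampenColimit c := by
  let adj := sheafificationAdjunction J (Type u)
  haveI : PreservesColimitsOfSize.{u, u} (presheafToSheaf J (Type u)) := adj.leftAdjoint_preservesColimits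
  let cP := colimit.cocone (F ⋙ sheafToPresheaf J (Type u))
  have h := (presheaf_cofan_isVanKampen cP (colimit.isColimit _)).map_reflective adj
  let e : F ≅ (F ⋙ sheafToPresheaf J (Type u)) ⋙ presheafToSheaf J (Type u) :=
    NatIso.ofComponents (fun j => (asIso (adj.counit.app (F.obj j))).symm) (fun {i j} g => by
      obtain ⟨i⟩ := i; obtain ⟨j⟩ := j
      obtain rfl : i = j := Discrete.eq_of_hom g
      obtain rfl : g = 𝟙 _ := Subsingleton.elim _ _
      simp)
  have h' := h.precompose_isIso e.hom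
  exact h'.of_iso ((IsColimit.precomposeHomEquiv e _).symm
    (isColimitOfPreserves (presheafToSheaf J (Type u)) (colimit.isColimit _)) |>.uniqueUpToIso hc)

lemma sheaf_hasDisjointUniversalCoproducts :
    SGA4.HasDisjointUniversalCoproducts.{u + 1, u} (Sheaf J (Type u)) := by
  intro κ X
  refine ⟨Cofan.mk (∐ X) (Sigma.ι X), coproductIsCoproduct X, ⟨?_, ?_⟩,
    (sheaf_cofan_isVanKampen _ (coproductIsCoproduct X)).isUniversal⟩
  · intro c hc i j hij s hs
    have h := isPullback_initial_to_of_cofan_isVanKampen (sheaf_cofan_isVanKampen c hc) ⟨i⟩ ⟨j⟩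
      (fun e => hij (congrArg Discrete.as e))
    exact ⟨initialIsInitial.ofIso (IsLimit.conePointUniqueUpToIso h.isLimit hs)⟩
  · intro c hc i
    exact mono_of_cofan_isVanKampen (sheaf_cofan_isVanKampen c hc) ⟨i⟩

lemma isEffectiveUniversal_of_isEquivRel {R A : Sheaf J (Type u)} (p₁ p₂ : R ⟶ A) (h : SGA4.IsEquivRel p₁ p₂) :
    SGA4.IsEffectiveUniversalEquivRel p₁ p₂ := by
  have hr := (h A).2.refl (𝟙 A)
  have hs := (h R).2.symm (x := p₁) (y := p₂) ⟨𝟙 R, Category.id_comp _, Category.id_comp _⟩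
  have ht := (h (pullback p₂ p₁)).2.trans (x := pullback.fst p₂ p₁ ≫ p₁) (y := pullback.fst p₂ p₁ ≫ p₂)
    (z := pullback.snd p₂ p₁ ≫ p₂) ⟨pullback.fst p₂ p₁, rfl, rfl⟩ ⟨pullback.snd p₂ p₁, pullback.condition.symm, rfl⟩
  haveI : JointlyMono₂ p₁ p₂ := ⟨fun T f g h₁ h₂ => (h T).1 (Prod.ext h₁ h₂)⟩
  let e : EquivalenceRelation p₁ p₂ :=
    { r := hr.choose
      reflexivity₁ := hr.choose_spec.1
      reflexivity₂ := hr.choose_spec.2
      s := hs.choose
      symmetry₁ := hs.choose_spec.1
      symmetry₂ := hs.choose_spec.2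
      c := PullbackCone.mk (pullback.fst p₂ p₁) (pullback.snd p₂ p₁) pullback.condition
      isLimit := pullbackIsPullback _ _
      t := ht.choose
      transitivity₁ := ht.choose_spec.1
      transitivity₂ := ht.choose_spec.2 }
  obtain ⟨E⟩ := SiteBase.sheaf_effectiveEquivalenceRelation e
  refine ⟨E.B, E.π, E.isKernelPair, E.isPushout, fun B' g => ?_⟩
  haveI : Epi E.π := ⟨fun a b hab => E.isPushout.hom_ext hab hab⟩
  exact SiteBase.sheaf_universally_effectiveEpi E.π _ _ _ (IsPullback.of_hasPullback E.π g).flip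

end Groth.Agent.Giraud
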