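import Groth.Agent.Giraud.Site
import Groth.Agent.Giraud.SheafAxioms
import Groth.Agent.Giraud.Glued
import Mathlib.CategoryTheory.Sites.Canonical
import Mathlib.CategoryTheory.Adjunction.PartialAdjoint
import Mathlib.CategoryTheory.Sites.LocallyBijective

/-! # The canonical topology of a topos of sheaves of sets -/

set_option autoImplicit false
set_option linter.all false
set_option backward.isDefEq.respectTransparency false
set_option backward.defeqAttrib.useBackward true

universe w v u

open CategoryTheory CategoryTheory.Limits Opposite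

namespace Groth.Agent.Giraud

variable {C : Type u} [SmallCategory C] (J : GrothendieckTopology C)

noncomputable def freeMap {c d : C} (g : c ⟶ d) : freeSheaf (K := J) c ⟶ freeSheaf (K := J) d :=
  (presheafToSheaf J (Type u)).map (yoneda.map g)

lemma freeSheafEquiv_freeMap {c d : C} (g : c ⟶ d) (F : Sheaf J (Type u)) (t : freeSheaf d ⟶ F) :
    freeSheafEquiv c F (freeMap J g ≫ t) = F.obj.map g.op (freeSheafEquiv d F t) := by
  exact (congrArg yonedaEquiv ((sheafificationAdjunction J (Type u)).homEquiv_naturality_left (yoneda.map g) t)).trans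
    (yonedaEquiv_naturality _ g).symm

/-- the axioms, with the free sheaves as detecting family -/
noncomputable def sheafAxioms : Axioms (Sheaf J (Type u)) where
  hb := sheaf_hasDisjointUniversalCoproducts
  hc := fun _ _ p₁ p₂ => isEffectiveUniversal_of_isEquivRel p₁ p₂
  ι := C
  G := fun c => freeSheaf c
  det := fun X Y f h => by
    haveI : IsIso ((sheafToPresheaf J (Type u)).map f) := by
      rw [NatTrans.isIso_iff_isIso_app]
      rintro ⟨c⟩
      refine (isIso_iff_bijective _).2 ⟨fun x y hxy => ?_, fun y => ?_⟩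
      · have := (h c ((freeSheafEquiv c X).symm x ≫ f)).unique (y₁ := (freeSheafEquiv c X).symm x)
          (y₂ := (freeSheafEquiv c X).symm y) rfl (by
            apply (freeSheafEquiv c Y).injective
            rw [freeSheafEquiv_comp, freeSheafEquiv_comp, Equiv.apply_symm_apply, Equiv.apply_symm_apply]
            exact hxy.symm)
        simpa using this
      · obtain ⟨t, ht, -⟩ := h c ((freeSheafEquiv c Y).symm y)
        exact ⟨freeSheafEquiv c X t, (freeSheafEquiv_comp t f).symm.trans
          ((congrArg _ ht).trans (Equiv.apply_symm_apply _ _))⟩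
    exact isIso_of_reflects_iso _ (sheafToPresheaf J (Type u))

/-- the arrows from free sheaves in a sieve -/
abbrev GenIdx {X : Sheaf J (Type u)} (S : Sieve X) : Type u :=
  Σ c : C, {t : freeSheaf (K := J) c ⟶ X // S t}

/-- the topology of epimorphic families -/
def covTopology : GrothendieckTopology (Sheaf J (Type u)) where
  sieves X := {S | ∀ (M : Sheaf J (Type u)) (m : M ⟶ X), Mono m →
    (∀ k : GenIdx J S, ∃ l, l ≫ m = k.2.1) → IsIso m}
  top_mem' X := fun M m hm h => (sheafAxioms J).cov_gen X M m hm (fun p => h ⟨p.1, p.2, trivial⟩)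
  pullback_stable' X Y S g hS := fun M m hm h => by
    refine (sheafAxioms J).cov_pullback (f := fun k : GenIdx J S => k.2.1) hS g M m hm (fun k => ?_)
    refine ((sheafAxioms J).cov_gen _).factors m _ (fun p => h ⟨p.1, p.2 ≫ pullback.snd k.2.1 g, ?_⟩)
    show S ((p.2 ≫ pullback.snd k.2.1 g) ≫ g)
    have e : (p.2 ≫ pullback.snd k.2.1 g) ≫ g = (p.2 ≫ pullback.fst k.2.1 g) ≫ k.2.1 := by
      rw [Category.assoc, Category.assoc, pullback.condition]
    rw [e]
    exact S.downward_closed k.2.2 _
  transitive' X S hS R hR := fun M m hm h => by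
    refine hS M m hm (fun k => ?_)
    exact Cov.factors (f := fun q : GenIdx J (R.pullback k.2.1) => q.2.1) (hR k.2.2) m _
      (fun q => h ⟨q.1, q.2.1 ≫ k.2.1, q.2.2⟩)

lemma mem_covTopology_of_factors {X : Sheaf J (Type u)} {S : Sieve X}
    (h : ∀ (M : Sheaf J (Type u)) (m : M ⟶ X), Mono m →
      (∀ ⦃Y : Sheaf J (Type u)⦄ (g : Y ⟶ X), S g → ∃ l, l ≫ m = g) → IsIso m) : S ∈ covTopology J X :=
  fun M m hm hk => h M m hm (fun Y g hg =>
    ((sheafAxioms J).cov_gen Y).factors m g (fun p => hk ⟨p.1, p.2 ≫ g, S.downward_closed hg _⟩))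

lemma isSheaf_cov_yoneda (Z : Sheaf J (Type u)) : Presieve.IsSheaf (covTopology J) (yoneda.obj Z) := by
  intro X S hS x hx
  obtain ⟨ψ, hψ⟩ := (sheafAxioms J).exists_desc (f := fun k : GenIdx J S => k.2.1) hS
    (fun k => x k.2.1 k.2.2) (fun k l i a b hab => hx a b k.2.2 l.2.2 hab)
  refine ⟨ψ, fun Y g hg => ?_, fun y hy => ?_⟩
  · refine (sheafAxioms J).gen_hom_ext (fun i t => ?_)
    show t ≫ g ≫ ψ = t ≫ x g hg
    rw [← Category.assoc]
    refine (hψ ⟨i, t ≫ g, S.downward_closed hg t⟩).trans ?_
    exact (Presieve.compatible_iff_sieveCompatible x).1 hx g t hg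
  · exact Cov.hom_ext (f := fun k : GenIdx J S => k.2.1) hS (fun k => (hy k.2.1 k.2.2).trans (hψ k).symm)

lemma canonical_eq : Sheaf.canonicalTopology (Sheaf J (Type u)) = covTopology J := by
  refine le_antisymm (fun X S hS => ?_) (Sheaf.le_finestTopology _ _ (by rintro _ ⟨Z, rfl⟩; exact isSheaf_cov_yoneda J Z))
  refine mem_covTopology_of_factors J (fun M m hm h => ?_)
  choose l hl using h
  let xf : Presieve.FamilyOfElements (yoneda.obj M) S.arrows := fun Y g hg => l g hg
  have hx : xf.Compatible :=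
    fun Y₁ Y₂ Z g₁ g₂ f₁ f₂ h₁ h₂ e => (cancel_mono m).1 (by
      show (g₁ ≫ l f₁ h₁) ≫ m = (g₂ ≫ l f₂ h₂) ≫ m
      rw [Category.assoc, Category.assoc, hl, hl, e])
  let r : X ⟶ M := (Sheaf.isSheaf_yoneda_obj M S hS).amalgamate _ hx
  have hr : r ≫ m = 𝟙 X := (Sheaf.isSheaf_yoneda_obj X S hS).isSeparatedFor.ext fun Y g hg => by
    show g ≫ r ≫ m = g ≫ 𝟙 X
    rw [← Category.assoc, Category.comp_id]
    exact (congrArg (· ≫ m) ((Sheaf.isSheaf_yoneda_obj M S hS).valid_glue hx g hg)).trans (hl g hg)
  exact ⟨r, by rw [← cancel_mono m, Category.assoc, hr, Category.comp_id, Category.id_comp], hr⟩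

lemma free_cover {d : C} {R : Sieve d} (hR : R ∈ J d) :
    Cov (fun k : Σ c : C, {g : c ⟶ d // R g} => freeMap J k.2.1) := by
  intro M m hm h
  choose l hl using h
  let e := freeSheafEquiv (K := J) d
  let x₀ := e (freeSheaf d) (𝟙 _)
  have hinj : ∀ c, Function.Injective (m.hom.app c) := fun c =>
    (mono_iff_injective _).1 (inferInstanceAs (Mono (m.hom.app c)))
  have hM : Presieve.IsSheaf J M.obj := (isSheaf_iff_isSheaf_of_type _ _).1 M.property
  have hD : Presieve.IsSheaf J (freeSheaf (K := J) d).obj :=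
    (isSheaf_iff_isSheaf_of_type _ _).1 (freeSheaf (K := J) d).property
  let y : Presieve.FamilyOfElements M.obj R.arrows := fun c g hg => freeSheafEquiv c M (l ⟨c, g, hg⟩)
  have hval : ∀ {c} (g : c ⟶ d) (hg : R g), m.hom.app (op c) (y g hg) = (freeSheaf (K := J) d).obj.map g.op x₀ := by
    intro c g hg
    rw [← freeSheafEquiv_comp, hl, ← freeSheafEquiv_freeMap, Category.comp_id]
  have hy : y.Compatible := fun V₁ V₂ W g₁ g₂ f₁ f₂ h₁ h₂ e' => hinj _ (by
    refine (NatTrans.naturality_apply m.hom g₁.op _).trans (Eq.trans ?_ (NatTrans.naturality_apply m.hom g₂.op _).symm)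
    rw [hval f₁ h₁, hval f₂ h₂, ← Functor.map_comp_apply, ← Functor.map_comp_apply, ← op_comp, ← op_comp, e'])
  let z := (hM R hR).amalgamate y hy
  have hz : m.hom.app (op d) z = x₀ := (hD R hR).isSeparatedFor.ext fun c g hg => by
    refine (NatTrans.naturality_apply m.hom g.op z).symm.trans ?_
    exact (congrArg _ ((hM R hR).valid_glue hy g hg)).trans (hval g hg)
  have hr : (e M).symm z ≫ m = 𝟙 _ := (e (freeSheaf d)).injective (by
    rw [freeSheafEquiv_comp, Equiv.apply_symm_apply, hz])
  exact ⟨(e M).symm z, by rw [← cancel_mono m, Category.assoc, hr, Category.comp_id, Category.id_comp], hr⟩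

lemma separated_free {G : (Sheaf J (Type u))ᵒᵖ ⥤ Type w} (hG : Presieve.IsSheaf (covTopology J) G)
    {d : C} {R : Sieve d} (hR : R ∈ J d) {x y : G.obj (op (freeSheaf d))}
    (h : ∀ ⦃c⦄ (g : c ⟶ d), R g → G.map (freeMap J g).op x = G.map (freeMap J g).op y) : x = y := by
  let S := Sieve.ofArrows (fun k : Σ c : C, {g : c ⟶ d // R g} => freeSheaf (K := J) k.1) (fun k => freeMap J k.2.1)
  have hS : S ∈ covTopology J _ := mem_covTopology_of_factors J (fun M m hm hh =>
    free_cover J hR M m hm (fun k => hh _ (Sieve.ofArrows_mk _ _ k)))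
  refine (hG S hS).isSeparatedFor.ext ?_
  rintro Y g ⟨W, a, b, ⟨k⟩, rfl⟩
  rw [op_comp, Functor.map_comp_apply, Functor.map_comp_apply, h _ k.2.2]

lemma exists_zigzag {I : Type u} [SmallCategory I] {D : I ⥤ Sheaf J (Type u)} {c : Cocone D} (hc : IsColimit c)
    {d : C} {i j : I} (a : (D.obj i).obj.obj (op d)) (b : (D.obj j).obj.obj (op d))
    (h : (c.ι.app i).hom.app (op d) a = (c.ι.app j).hom.app (op d) b) :
    ∃ R ∈ J d, ∀ ⦃d' : C⦄ (g : d' ⟶ d), R g →
      Relation.EqvGen (D ⋙ sheafToPresheaf J (Type u) ⋙ (evaluation _ _).obj (op d')).ColimitTypeRel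
        ⟨i, (D.obj i).obj.map g.op a⟩ ⟨j, (D.obj j).obj.map g.op b⟩ := by
  let adj := sheafificationAdjunction J (Type u)
  let L := colimit.cocone (D ⋙ sheafToPresheaf J (Type u))
  let s : Cocone D :=
    { pt := (presheafToSheaf J (Type u)).obj L.pt
      ι :=
        { app := fun i => ⟨L.ι.app i ≫ toSheafify J L.pt⟩
          naturality := fun i i' k => by
            apply (sheafToPresheaf J (Type u)).map_injective
            show (D.map k).hom ≫ L.ι.app i' ≫ toSheafify J L.pt = (L.ι.app i ≫ toSheafify J L.pt) ≫ 𝟙 _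
            rw [Category.comp_id, ← Category.assoc]
            exact congrArg (· ≫ toSheafify J L.pt) (L.w k) } }
  have key : ∀ (i : I) (a : (D.obj i).obj.obj (op d)),
      (toSheafify J L.pt).app (op d) ((L.ι.app i).app (op d) a) = (hc.desc s).hom.app (op d) ((c.ι.app i).hom.app (op d) a) :=
    fun i a => (ConcreteCategory.congr_hom (NatTrans.congr_app (congrArg InducedCategory.Hom.hom (hc.fac s i)) (op d)) a).symm
  refine ⟨_, Presheaf.equalizerSieve_mem J (toSheafify J L.pt) ((L.ι.app i).app (op d) a) ((L.ι.app j).app (op d) b)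
    (by rw [key, key, h]), fun d' g hg => ?_⟩
  let K' := D ⋙ sheafToPresheaf J (Type u) ⋙ (evaluation _ _).obj (op d')
  let P := isColimitOfPreserves ((evaluation _ (Type u)).obj (op d')) (colimit.isColimit (D ⋙ sheafToPresheaf J (Type u)))
  apply Types.colimit_eq (F := K')
  let φ := (P.coconePointUniqueUpToIso (colimit.isColimit K')).hom
  have hφ : ∀ (i : I) (x : (D.obj i).obj.obj (op d')), φ ((L.ι.app i).app (op d') x) = colimit.ι K' i x := fun i x =>
    ConcreteCategory.congr_hom (P.comp_coconePointUniqueUpToIso_hom (colimit.isColimit K') i) x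
  rw [← hφ, ← hφ]
  refine congrArg φ ?_
  exact (NatTrans.naturality_apply (L.ι.app i) g.op a).trans (hg.trans (NatTrans.naturality_apply (L.ι.app j) g.op b).symm)

/-- sheaves for the topology of epimorphic families turn colimits into limits -/
lemma preservesLimits_of_isSheaf (G : (Sheaf J (Type u))ᵒᵖ ⥤ Type w) (hG : Presieve.IsSheaf (covTopology J) G)
    {I : Type u} [SmallCategory I] (K : I ⥤ (Sheaf J (Type u))ᵒᵖ) : PreservesLimit K G := by
  constructor
  intro c hc
  rw [Types.isLimit_iff]
  intro s hs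
  let cc : Cocone K.leftOp := coconeLeftOpOfCone c
  have hcc : IsColimit cc := isColimitCoconeLeftOpOfCone K hc
  let leg : ∀ i : I, (K.obj i).unop ⟶ c.pt.unop := fun i => (c.π.app i).unop
  let S := Sieve.ofArrows (fun i : I => (K.obj i).unop) leg
  have hS : S ∈ covTopology J _ := mem_covTopology_of_factors J (fun M m hm hh => by
    choose l hl using fun i => hh (leg i) (Sieve.ofArrows_mk _ _ i)
    let t : Cocone K.leftOp :=
      { pt := M
        ι :=
          { app := fun i => l i.unop
            naturality := fun i i' k => by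
              refine Eq.trans ?_ (Category.comp_id _).symm
              refine (cancel_mono m).1 ?_
              refine (Category.assoc _ _ _).trans ((congrArg (K.leftOp.map k ≫ ·) (hl i'.unop)).trans (Eq.trans ?_ (hl i.unop).symm))
              exact cc.w k } }
    have hr : hcc.desc t ≫ m = 𝟙 _ := hcc.hom_ext (fun i =>
      ((hcc.fac_assoc t i m).trans (hl i.unop)).trans (Category.comp_id _).symm)
    exact ⟨hcc.desc t, (cancel_mono m).1 ((Category.assoc _ _ _).trans ((congrArg (m ≫ ·) hr).trans ((Category.comp_id m).trans (Category.id_comp m).symm))), hr⟩)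
  have hwd : ∀ {Z : Sheaf J (Type u)} (i j : I) (a : Z ⟶ (K.obj i).unop) (b : Z ⟶ (K.obj j).unop),
      a ≫ leg i = b ≫ leg j → G.map a.op (s i) = G.map b.op (s j) := by
    intro Z i j a b hab
    refine (hG ⊤ ((covTopology J).top_mem Z)).isSeparatedFor.ext (fun W k _ => ?_)
    revert k
    suffices h : ∀ (d : C) (t : freeSheaf (K := J) d ⟶ Z), G.map t.op (G.map a.op (s i)) = G.map t.op (G.map b.op (s j)) by
      intro k _
      refine (hG (Sieve.generate (Presieve.ofArrows (fun p : Σ d : C, (freeSheaf (K := J) d ⟶ W) => freeSheaf (K := J) p.1) (fun p => p.2)))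
        (mem_covTopology_of_factors J (fun M m hm hh => (sheafAxioms J).cov_gen W M m hm
          (fun p => hh _ (Sieve.ofArrows_mk _ _ p))))).isSeparatedFor.ext ?_
      rintro V g ⟨V', p, q, ⟨r⟩, rfl⟩
      rw [op_comp, Functor.map_comp_apply, Functor.map_comp_apply]
      refine congrArg _ ?_
      rw [← Functor.map_comp_apply G k.op, ← op_comp, ← Functor.map_comp_apply G k.op, ← op_comp]
      exact h r.1 (r.2 ≫ k)
    intro d t
    rw [← Functor.map_comp_apply, ← Functor.map_comp_apply, ← op_comp, ← op_comp]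
    let x := freeSheafEquiv d _ (t ≫ a)
    let y := freeSheafEquiv d _ (t ≫ b)
    have hxy : (cc.ι.app (op i)).hom.app (op d) x = (cc.ι.app (op j)).hom.app (op d) y := by
      refine (freeSheafEquiv_comp (t ≫ a) (cc.ι.app (op i))).symm.trans (Eq.trans ?_ (freeSheafEquiv_comp (t ≫ b) (cc.ι.app (op j))))
      exact congrArg (freeSheafEquiv d cc.pt) ((Category.assoc t a (leg i)).trans ((congrArg (t ≫ ·) hab).trans (Category.assoc t b (leg j)).symm))
    obtain ⟨R, hR, hzz⟩ := exists_zigzag J (D := K.leftOp) hcc x y hxy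
    refine separated_free J hG hR (fun d' g hg => ?_)
    let val : (Σ i : Iᵒᵖ, (K.leftOp.obj i).obj.obj (op d')) → G.obj (op (freeSheaf (K := J) d')) :=
      fun p => G.map ((freeSheafEquiv d' _).symm p.2).op (s p.1.unop)
    have hval : ∀ p q, Relation.EqvGen (K.leftOp ⋙ sheafToPresheaf J (Type u) ⋙ (evaluation _ _).obj (op d')).ColimitTypeRel p q →
        val p = val q := by
      intro p q h
      induction h with
      | rel p q h =>
        obtain ⟨f, hf⟩ := h
        show G.map _ (s p.1.unop) = G.map _ (s q.1.unop)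
        have e : (freeSheafEquiv d' (K.leftOp.obj q.1)).symm q.2 = (freeSheafEquiv d' (K.leftOp.obj p.1)).symm p.2 ≫ K.leftOp.map f := by
          apply (freeSheafEquiv d' _).injective
          rw [Equiv.apply_symm_apply, freeSheafEquiv_comp, Equiv.apply_symm_apply]
          exact hf
        rw [e, op_comp, Functor.map_comp_apply]
        refine congrArg _ ?_
        exact (hs f.unop).symm
      | refl p => rfl
      | symm p q _ ih => exact ih.symm
      | trans p q r _ _ ih ih' => exact ih.trans ih'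
    have := hval _ _ (hzz g hg)
    simp only [val] at this
    rw [← Functor.map_comp_apply, ← Functor.map_comp_apply, ← op_comp, ← op_comp]
    have ex : ∀ {Q : Sheaf J (Type u)} (r : freeSheaf (K := J) d ⟶ Q),
        (freeSheafEquiv d' Q).symm (Q.obj.map g.op (freeSheafEquiv d Q r)) = freeMap J g ≫ r := fun r => by
      rw [← freeSheafEquiv_freeMap, Equiv.symm_apply_apply]
    exact (congrArg (fun z => G.map z.op (s i)) (ex (t ≫ a))).symm.trans (this.trans (congrArg (fun z => G.map z.op (s j)) (ex (t ≫ b))))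
  let fam : Presieve.FamilyOfElements G S.arrows := fun Y g hg =>
    G.map ((Sieve.mem_ofArrows_iff _ _ g).1 hg).choose_spec.choose.op (s ((Sieve.mem_ofArrows_iff _ _ g).1 hg).choose)
  have hfam : fam.Compatible := fun Y₁ Y₂ Z g₁ g₂ f₁ f₂ h₁ h₂ e => by
    show G.map g₁.op (G.map _ _) = G.map g₂.op (G.map _ _)
    rw [← Functor.map_comp_apply, ← Functor.map_comp_apply, ← op_comp, ← op_comp]
    refine hwd _ _ _ _ ?_
    rw [Category.assoc, Category.assoc, ← ((Sieve.mem_ofArrows_iff _ _ f₁).1 h₁).choose_spec.choose_spec,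
      ← ((Sieve.mem_ofArrows_iff _ _ f₂).1 h₂).choose_spec.choose_spec, e]
  refine ⟨(hG S hS).amalgamate fam hfam, fun i => ?_, fun y hy => (hG S hS).isSeparatedFor.ext fun Y g hg => ?_⟩
  · show G.map (leg i).op _ = s i
    refine ((hG S hS).valid_glue hfam (leg i) (Sieve.ofArrows_mk _ _ i)).trans ?_
    refine (hwd _ i _ (𝟙 _) ?_).trans (by simp)
    rw [Category.id_comp]
    exact ((Sieve.mem_ofArrows_iff _ _ (leg i)).1 (Sieve.ofArrows_mk _ _ i)).choose_spec.choose_spec.symm
  · rw [(hG S hS).valid_glue hfam g hg]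
    obtain ⟨i, a, rfl⟩ := (Sieve.mem_ofArrows_iff _ _ g).1 hg
    rw [op_comp, Functor.map_comp_apply]
    refine (congrArg (G.map a.op) (hy i)).trans (hwd _ _ _ _ ?_)
    exact ((Sieve.mem_ofArrows_iff _ _ (a ≫ leg i)).1 hg).choose_spec.choose_spec

end Groth.Agent.Giraud
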