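import Groth.Agent.Giraud.Canonical
import Mathlib.CategoryTheory.Sites.Continuous
import Mathlib.CategoryTheory.Limits.Preserves.Opposites
import Mathlib.CategoryTheory.Limits.Shapes.Opposites.Products

/-! # Canonical sheaves on a topos: limit preservation, representability, continuity -/

set_option autoImplicit false
set_option linter.all false
set_option backward.isDefEq.respectTransparency false
set_option backward.defeqAttrib.useBackward true

universe w v u

open CategoryTheory CategoryTheory.Limits Opposite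

namespace Groth.Agent.Giraud

variable {C : Type u} [SmallCategory C] (J : GrothendieckTopology C)

lemma cov_sheafFor {G : (Sheaf J (Type u))ᵒᵖ ⥤ Type w} (hG : Presieve.IsSheaf (covTopology J) G)
    {X : Sheaf J (Type u)} {κ : Type u} {Y : κ → Sheaf J (Type u)} {f : ∀ k, Y k ⟶ X} (hf : Cov f) :
    (Presieve.ofArrows Y f).IsSheafFor G := by
  rw [Presieve.isSheafFor_iff_generate]
  exact hG _ (mem_covTopology_of_factors J (fun M m hm hh => hf M m hm (fun k => hh _ (Sieve.ofArrows_mk _ _ k))))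

lemma cov_separated {G : (Sheaf J (Type u))ᵒᵖ ⥤ Type w} (hG : Presieve.IsSheaf (covTopology J) G)
    {X : Sheaf J (Type u)} {κ : Type u} {Y : κ → Sheaf J (Type u)} {f : ∀ k, Y k ⟶ X} (hf : Cov f)
    {a b : G.obj (op X)} (h : ∀ k, G.map (f k).op a = G.map (f k).op b) : a = b := by
  refine (cov_sheafFor J hG hf).isSeparatedFor.ext ?_
  rintro _ _ ⟨k⟩
  exact h k

lemma cov_free (X : Sheaf J (Type u)) : Cov (fun p : Σ c : C, (freeSheaf (K := J) c ⟶ X) => p.2) :=
  (sheafAxioms J).cov_gen X

lemma free_local {d c : C} (a : freeSheaf (K := J) d ⟶ freeSheaf (K := J) c) :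
    ∃ R ∈ J d, ∀ ⦃d' : C⦄ (g : d' ⟶ d), R g → ∃ h : d' ⟶ c, freeMap J g ≫ a = freeMap J h := by
  refine ⟨_, Presheaf.imageSieve_mem J (toSheafify J (yoneda.obj c)) (U := op d) (freeSheafEquiv d _ a), ?_⟩
  rintro d' g ⟨h, hh⟩
  refine ⟨h, (freeSheafEquiv d' _).injective ?_⟩
  rw [freeSheafEquiv_freeMap]
  refine hh.symm.trans ?_
  have e := freeSheafEquiv_freeMap J h (freeSheaf (K := J) c) (𝟙 _)
  rw [Category.comp_id] at e
  rw [e]
  have e0 : freeSheafEquiv (K := J) c (freeSheaf (K := J) c) (𝟙 _) =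
      (toSheafify J (yoneda.obj c)).app (op c) (𝟙 c) := by
    show yonedaEquiv ((sheafificationAdjunction J (Type u)).homEquiv _ _ (𝟙 _)) = _
    rw [Adjunction.homEquiv_id]
    rfl
  rw [e0]
  refine Eq.trans ?_ (NatTrans.naturality_apply (toSheafify J (yoneda.obj c)) h.op (𝟙 c))
  exact congrArg _ (Category.comp_id h).symm

lemma free_eq_local {d c : C} {g g' : d ⟶ c} (e : freeMap J g = freeMap J g') :
    ∃ R ∈ J d, ∀ ⦃d' : C⦄ (k : d' ⟶ d), R k → k ≫ g = k ≫ g' := by
  have key : ∀ g : d ⟶ c, freeSheafEquiv d _ (freeMap J g) = (toSheafify J (yoneda.obj c)).app (op d) g := fun g => by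
    have e := freeSheafEquiv_freeMap J g (freeSheaf (K := J) c) (𝟙 _)
    rw [Category.comp_id] at e
    rw [e]
    have e0 : freeSheafEquiv (K := J) c (freeSheaf (K := J) c) (𝟙 _) =
        (toSheafify J (yoneda.obj c)).app (op c) (𝟙 c) := by
      show yonedaEquiv ((sheafificationAdjunction J (Type u)).homEquiv _ _ (𝟙 _)) = _
      rw [Adjunction.homEquiv_id]
      rfl
    rw [e0]
    refine (NatTrans.naturality_apply (toSheafify J (yoneda.obj c)) g.op (𝟙 c)).symm.trans ?_
    exact congrArg _ (Category.comp_id g)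
  refine ⟨_, Presheaf.equalizerSieve_mem J (toSheafify J (yoneda.obj c)) (X := op d) g g'
    (by rw [← key, ← key, e]), ?_⟩
  intro d' k hk
  exact hk

section Converse

variable (F : (Sheaf J (Type u))ᵒᵖ ⥤ Type w)

lemma ext_of_cofan [PreservesLimitsOfSize.{u, u} F] {κ : Type u} {Y : κ → Sheaf J (Type u)} {c : Cofan Y}
    (hc : IsColimit c) {a b : F.obj (op c.pt)} (h : ∀ k, F.map (c.inj k).op a = F.map (c.inj k).op b) : a = b := by
  refine Concrete.isLimit_ext (Discrete.functor (fun k => op (Y k)) ⋙ F) (isLimitOfPreserves F (Cofan.IsColimit.op hc)) _ _ ?_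
  rintro ⟨k⟩
  exact h k

lemma exists_of_cofan [PreservesLimitsOfSize.{u, u} F] {κ : Type u} {Y : κ → Sheaf J (Type u)} {c : Cofan Y}
    (hc : IsColimit c) (x : ∀ k, F.obj (op (Y k))) : ∃ a : F.obj (op c.pt), ∀ k, F.map (c.inj k).op a = x k := by
  obtain ⟨a, ha, -⟩ := (Types.isLimit_iff _).1 ⟨isLimitOfPreserves F (Cofan.IsColimit.op hc)⟩ (fun k => x k.as) (by
    rintro ⟨i⟩ ⟨j⟩ ⟨⟨h⟩⟩
    cases h
    exact ConcreteCategory.congr_hom ((Discrete.functor (fun k => op (Y k)) ⋙ F).map_id ⟨i⟩) (x i))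
  exact ⟨a, fun k => ha ⟨k⟩⟩

lemma isPullback_map [PreservesLimitsOfSize.{u, u} F] {R A X : Sheaf J (Type u)} {p q : R ⟶ A} {d : A ⟶ X}
    (h : IsPushout p q d d) : IsPullback (F.map d.op) (F.map d.op) (F.map q.op) (F.map p.op) := by
  haveI : PreservesLimitsOfSize.{0, 0} F := preservesLimitsOfSize_shrink.{0, u, 0, u} F
  exact h.op.map F

theorem isSheaf_of_preservesLimits [PreservesLimitsOfSize.{u, u} F] : Presieve.IsSheaf (covTopology J) F := by
  let S' := sheafAxioms J
  have inj : ∀ {X : Sheaf J (Type u)} {κ : Type u} {Y : κ → Sheaf J (Type u)} {f : ∀ k, Y k ⟶ X} (hf : Cov f)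
      (a b : F.obj (op X)), (∀ k, F.map (f k).op a = F.map (f k).op b) → a = b := by
    intro X κ Y f hf a b h
    let d := Cofan.IsColimit.desc (S'.cofanIsColimit Y) f
    have hd : ∀ k, (S'.cofan Y).inj k ≫ d = f k := Cofan.IsColimit.fac _ _
    have hpb := isPullback_map J F (S'.effective_of_cov hf d (fun k => ⟨_, hd k⟩)).1
    have he : F.map d.op a = F.map d.op b := ext_of_cofan J F (S'.cofanIsColimit Y) (fun k => by
      rw [← Functor.map_comp_apply, ← Functor.map_comp_apply, ← op_comp, hd]; exact h k)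
    exact (Types.isPullback_iff _ _ _ _).1 hpb |>.2.1 _ _ ⟨he, he⟩
  intro X S hS x hx
  let f := fun k : GenIdx J S => k.2.1
  let Y := fun k : GenIdx J S => freeSheaf (K := J) k.1
  have hf : Cov f := hS
  let d := Cofan.IsColimit.desc (S'.cofanIsColimit Y) f
  have hd : ∀ k, (S'.cofan Y).inj k ≫ d = f k := Cofan.IsColimit.fac _ _
  obtain ⟨a, ha⟩ := exists_of_cofan J F (S'.cofanIsColimit Y) (fun k => x (f k) k.2.2)
  have key : F.map (pullback.snd d d).op a = F.map (pullback.fst d d).op a := by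
    obtain ⟨h1⟩ := S'.cofan_pullback Y (pullback.fst d d)
    refine ext_of_cofan J F h1 (fun k => ?_)
    obtain ⟨h2⟩ := S'.cofan_pullback Y (pullback.fst (pullback.fst d d) ((S'.cofan Y).inj k) ≫ pullback.snd d d)
    refine ext_of_cofan J F h2 (fun l => ?_)
    let p1 := pullback.fst (pullback.fst d d) ((S'.cofan Y).inj k)
    let p2 := pullback.snd (pullback.fst d d) ((S'.cofan Y).inj k)
    let q1 := pullback.fst (p1 ≫ pullback.snd d d) ((S'.cofan Y).inj l)
    let q2 := pullback.snd (p1 ≫ pullback.snd d d) ((S'.cofan Y).inj l)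
    have e1 : p1 ≫ pullback.fst d d = p2 ≫ (S'.cofan Y).inj k := pullback.condition
    have e2 : q1 ≫ p1 ≫ pullback.snd d d = q2 ≫ (S'.cofan Y).inj l := pullback.condition
    have e3 : (q1 ≫ p2) ≫ f k = q2 ≫ f l := by
      rw [← hd k, ← hd l, Category.assoc, ← reassoc_of% e1, ← reassoc_of% e2, pullback.condition]
    have := hx (q1 ≫ p2) q2 k.2.2 l.2.2 e3
    show F.map q1.op (F.map p1.op _) = F.map q1.op (F.map p1.op _)
    calc F.map q1.op (F.map p1.op (F.map (pullback.snd d d).op a))
        = F.map (q1 ≫ p1 ≫ pullback.snd d d).op a := by simp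
      _ = F.map (q2 ≫ (S'.cofan Y).inj l).op a := by rw [e2]
      _ = F.map q2.op (x (f l) l.2.2) := by rw [op_comp, Functor.map_comp_apply, ha]
      _ = F.map (q1 ≫ p2).op (x (f k) k.2.2) := this.symm
      _ = F.map ((q1 ≫ p2) ≫ (S'.cofan Y).inj k).op a := by
        rw [op_comp (f := q1 ≫ p2), Functor.map_comp_apply, ha]
      _ = F.map (q1 ≫ p1 ≫ pullback.fst d d).op a := by rw [Category.assoc, ← e1]
      _ = _ := by simp
  have hpb := isPullback_map J F (S'.effective_of_cov hf d (fun k => ⟨_, hd k⟩)).1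
  obtain ⟨y, hy, -⟩ := (Types.isPullback_iff _ _ _ _).1 hpb |>.2.2 a a key
  have hfy : ∀ k, F.map (f k).op y = x (f k) k.2.2 := fun k => by
    refine (congrArg (fun z => F.map z.op y) (hd k).symm).trans ?_
    show F.map ((S'.cofan Y).inj k ≫ d).op y = _
    rw [op_comp, Functor.map_comp_apply, hy]
    exact ha k
  refine ⟨y, fun W g hg => inj (cov_free J W) _ _ (fun p => ?_), fun z hz => inj hf _ _ (fun k => (hz _ k.2.2).trans (hfy k).symm)⟩
  rw [← Functor.map_comp_apply, ← op_comp]
  refine (hfy ⟨p.1, p.2 ≫ g, S.downward_closed hg _⟩).trans ?_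
  exact (Presieve.compatible_iff_sieveCompatible x).1 hx g p.2 hg

end Converse

/-- sheaves of sets for the topology of epimorphic families are representable -/
theorem isRepresentable_of_isSheaf (G : (Sheaf J (Type u))ᵒᵖ ⥤ Type u) (hG : Presieve.IsSheaf (covTopology J) G) :
    G.IsRepresentable := by
  let fr : C ⥤ Sheaf J (Type u) := yoneda ⋙ presheafToSheaf J (Type u)
  have hP : Presieve.IsSheaf J (fr.op ⋙ G) := by
    intro d R hR y hy
    have hc := free_cover J hR
    have hx : Presieve.Arrows.Compatible G (fun k : Σ c : C, {g : c ⟶ d // R g} => freeMap J k.2.1)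
        (fun k => y k.2.1 k.2.2) := by
        intro k l W a b hab
        refine cov_separated J hG (cov_free J W) (fun p => ?_)
        rw [← Functor.map_comp_apply, ← Functor.map_comp_apply, ← op_comp, ← op_comp]
        have hab' : (p.2 ≫ a) ≫ freeMap J k.2.1 = (p.2 ≫ b) ≫ freeMap J l.2.1 := by
          rw [Category.assoc, Category.assoc, hab]
        generalize p.2 ≫ a = a', p.2 ≫ b = b' at hab'
        obtain ⟨R₁, hR₁, h₁⟩ := free_local J a'
        obtain ⟨R₂, hR₂, h₂⟩ := free_local J b'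
        refine separated_free J hG (J.intersection_covering hR₁ hR₂) (fun e g hg => ?_)
        obtain ⟨u₁, hu₁⟩ := h₁ g hg.1
        obtain ⟨u₂, hu₂⟩ := h₂ g hg.2
        rw [← Functor.map_comp_apply, ← Functor.map_comp_apply, ← op_comp, ← op_comp, hu₁, hu₂]
        have e3 : freeMap J (u₁ ≫ k.2.1) = freeMap J (u₂ ≫ l.2.1) := by
          have hh := congrArg (freeMap J g ≫ ·) hab'
          simp only [reassoc_of% hu₁, reassoc_of% hu₂] at hh
          exact (fr.map_comp _ _).trans (hh.trans (fr.map_comp _ _).symm)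
        obtain ⟨R₃, hR₃, h₃⟩ := free_eq_local J e3
        refine separated_free J hG hR₃ (fun e' g' hg' => ?_)
        have := hy (g' ≫ u₁) (g' ≫ u₂) k.2.2 l.2.2 (by simpa using h₃ g' hg')
        rw [← Functor.map_comp_apply, ← Functor.map_comp_apply, ← op_comp, ← op_comp]
        exact (congrArg (fun z => G.map z.op _) (fr.map_comp g' u₁)).symm.trans
          (this.trans (congrArg (fun z => G.map z.op _) (fr.map_comp g' u₂)))
    obtain ⟨t, ht, hu⟩ := (Presieve.isSheafFor_arrows_iff _ _).1 (cov_sheafFor J hG hc) _ hx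
    exact ⟨t, fun c g hg => ht ⟨c, g, hg⟩, fun z hz => hu z (fun k => hz k.2.1 k.2.2)⟩
  let P : Sheaf J (Type u) := ⟨fr.op ⋙ G, (isSheaf_iff_isSheaf_of_type _ _).2 hP⟩
  let toP : ∀ (X : Sheaf J (Type u)), G.obj (op X) → (X ⟶ P) := fun X ξ =>
    ⟨{ app := fun c => TypeCat.ofHom (fun s => G.map ((freeSheafEquiv c.unop X).symm s).op ξ)
       naturality := fun c c' g => by
        ext s
        show G.map ((freeSheafEquiv c'.unop X).symm (X.obj.map g s)).op ξ =
          G.map (freeMap J g.unop).op (G.map ((freeSheafEquiv c.unop X).symm s).op ξ)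
        rw [← Functor.map_comp_apply, ← op_comp]
        refine congrArg (fun z => G.map (Quiver.Hom.op z) ξ) ?_
        apply (freeSheafEquiv c'.unop X).injective
        rw [Equiv.apply_symm_apply, freeSheafEquiv_freeMap, Equiv.apply_symm_apply]
        rfl }⟩
  have hbij : ∀ X, Function.Bijective (toP X) := fun X => by
    refine ⟨fun ξ η h => cov_separated J hG (cov_free J X) (fun p => ?_), fun φ => ?_⟩
    · have := ConcreteCategory.congr_hom (NatTrans.congr_app (congrArg InducedCategory.Hom.hom h) (op p.1))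
        (freeSheafEquiv p.1 X p.2)
      change G.map ((freeSheafEquiv p.1 X).symm _).op ξ = G.map ((freeSheafEquiv p.1 X).symm _).op η at this
      rwa [Equiv.symm_apply_apply] at this
    · let ψ : ∀ {c : C}, (freeSheaf (K := J) c ⟶ X) → G.obj (op (freeSheaf (K := J) c)) :=
        fun {c} t => φ.hom.app (op c) (freeSheafEquiv c X t)
      have hψ : ∀ {d c : C} (g : d ⟶ c) (t : freeSheaf (K := J) c ⟶ X), G.map (freeMap J g).op (ψ t) = ψ (freeMap J g ≫ t) := by
        intro d c g t
        show _ = φ.hom.app _ (freeSheafEquiv d X (freeMap J g ≫ t))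
        rw [freeSheafEquiv_freeMap]
        exact (NatTrans.naturality_apply φ.hom g.op _).symm
      have hψ' : ∀ {d c : C} (a : freeSheaf (K := J) d ⟶ freeSheaf (K := J) c) (t : freeSheaf (K := J) c ⟶ X),
          G.map a.op (ψ t) = ψ (a ≫ t) := by
        intro d c a t
        obtain ⟨R, hR, h⟩ := free_local J a
        refine separated_free J hG hR (fun e g hg => ?_)
        obtain ⟨u₁, hu₁⟩ := h g hg
        rw [← Functor.map_comp_apply, ← op_comp, hu₁, hψ, hψ, ← Category.assoc, hu₁]
      have hx : Presieve.Arrows.Compatible G (fun p : Σ c : C, (freeSheaf (K := J) c ⟶ X) => p.2)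
        (fun p => ψ p.2) := by
          intro p q W a b hab
          refine cov_separated J hG (cov_free J W) (fun r => ?_)
          rw [← Functor.map_comp_apply, ← Functor.map_comp_apply, ← op_comp, ← op_comp, hψ', hψ',
            Category.assoc, Category.assoc, hab]
      obtain ⟨ξ, hξ, -⟩ := (Presieve.isSheafFor_arrows_iff _ _).1 (cov_sheafFor J hG (cov_free J X)) _ hx
      refine ⟨ξ, ?_⟩
      ext c s
      show G.map ((freeSheafEquiv c.unop X).symm s).op ξ = φ.hom.app c s
      refine (hξ ⟨c.unop, _⟩).trans ?_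
      show φ.hom.app c (freeSheafEquiv c.unop X ((freeSheafEquiv c.unop X).symm s)) = _
      rw [Equiv.apply_symm_apply]
  exact Functor.RepresentableBy.isRepresentable (Y := P)
    { homEquiv := fun {X} => (Equiv.ofBijective _ (hbij X)).symm
      homEquiv_comp := fun {X X'} g t => by
        obtain ⟨ξ, rfl⟩ := (hbij X').2 t
        rw [Equiv.symm_apply_eq]
        refine Eq.trans ?_ (congrArg (fun z => toP X (G.map g.op z)) ((Equiv.ofBijective _ (hbij X')).symm_apply_apply ξ)).symm
        ext c s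
        show G.map ((freeSheafEquiv c.unop X').symm (g.hom.app c s)).op ξ =
          G.map ((freeSheafEquiv c.unop X).symm s).op (G.map g.op ξ)
        rw [← Functor.map_comp_apply, ← op_comp]
        refine congrArg (fun z => G.map (Quiver.Hom.op z) ξ) ?_
        apply (freeSheafEquiv c.unop X').injective
        rw [Equiv.apply_symm_apply, freeSheafEquiv_comp, Equiv.apply_symm_apply] }

section Main

variable {E' : Type v} [Category.{w} E']

theorem isSheaf_canonical_iff (F : (Sheaf J (Type u))ᵒᵖ ⥤ E') :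
    Presheaf.IsSheaf (Sheaf.canonicalTopology (Sheaf J (Type u))) F ↔ PreservesLimitsOfSize.{u, u} F := by
  rw [canonical_eq]
  refine ⟨fun h => ⟨@fun I _ => ⟨@fun K => ⟨fun {c} hc => ⟨coyonedaJointlyReflectsLimits _ _ fun X => ?_⟩⟩⟩⟩, fun h X => ?_⟩
  · haveI := preservesLimits_of_isSheaf J (F ⋙ coyoneda.obj X) (h X.unop) K
    exact isLimitOfPreserves (F ⋙ coyoneda.obj X) hc
  · exact isSheaf_of_preservesLimits J (F ⋙ coyoneda.obj (op X))

variable {D : Type u} [SmallCategory D] (K : GrothendieckTopology D) (f : Sheaf J (Type u) ⥤ Sheaf K (Type u))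

lemma isLeftAdjoint_of_isSheaf (h : ∀ G : Sheaf K (Type u), Presieve.IsSheaf (covTopology J) (f.op ⋙ yoneda.obj G)) :
    f.IsLeftAdjoint := by
  refine Functor.isLeftAdjoint_of_rightAdjointObjIsDefined_eq_top ?_
  ext G
  simpa only [Functor.rightAdjointObjIsDefined_iff, Pi.top_apply, Prop.top_eq_true, iff_true]
    using isRepresentable_of_isSheaf J _ (h G)

theorem lex_isLeftAdjoint [PreservesFiniteLimits f] (hf : SGA4.PreservesEpiFamilies.{u + 1, u + 1, u} f) :
    f.IsLeftAdjoint := by
  refine isLeftAdjoint_of_isSheaf J K f (fun G X S hS x hx => ?_)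
  have hcov : ∀ {X : Sheaf J (Type u)} {κ : Type u} {Y : κ → Sheaf J (Type u)} {g : ∀ k, Y k ⟶ X}, Cov g →
      Cov (fun k => f.map (g k)) := by
    intro X κ Y g hg M m hm hh
    have he := hf κ X Y g (fun Z a b hab => hg.hom_ext hab)
    haveI : Epi m := ⟨fun a b hab => he _ a b (fun k => by
      obtain ⟨l, hl⟩ := hh k
      rw [← hl, Category.assoc, Category.assoc, hab])⟩
    exact isIso_of_mono_of_epi m
  obtain ⟨ψ, hψ⟩ := (sheafAxioms K).exists_desc (hcov (g := fun k : GenIdx J S => k.2.1) hS) (fun k => x k.2.1 k.2.2)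
    (fun k l i a b hab => by
      have hp := (IsPullback.of_hasPullback k.2.1 l.2.1).map f
      have := hx (pullback.fst k.2.1 l.2.1) (pullback.snd k.2.1 l.2.1) k.2.2 l.2.2 pullback.condition
      rw [← hp.lift_fst a b hab, Category.assoc]
      conv_rhs => rw [← hp.lift_snd a b hab, Category.assoc]
      exact congrArg (hp.lift a b hab ≫ ·) this)
  refine ⟨ψ, fun W g hg => ?_, fun y hy => Cov.hom_ext (f := fun k : GenIdx J S => f.map k.2.1) (hcov hS)
    (fun k => (hy k.2.1 k.2.2).trans (hψ k).symm)⟩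
  refine (hcov (cov_free J W)).hom_ext (fun p => ?_)
  show f.map p.2 ≫ f.map g ≫ ψ = f.map p.2 ≫ x g hg
  rw [← Category.assoc, ← f.map_comp]
  refine (hψ ⟨p.1, p.2 ≫ g, S.downward_closed hg _⟩).trans ?_
  exact (Presieve.compatible_iff_sieveCompatible x).1 hx g p.2 hg

theorem preservesColimits_iff_isContinuous :
    PreservesColimitsOfSize.{u, u} f ↔
      f.IsContinuous.{u} (Sheaf.canonicalTopology (Sheaf J (Type u))) (Sheaf.canonicalTopology (Sheaf K (Type u))) := by
  refine ⟨fun h => ⟨fun G => ?_⟩, fun h => ?_⟩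
  · haveI := (isSheaf_canonical_iff K G.obj).1 G.property
    haveI : PreservesLimitsOfSize.{u, u} f.op := preservesLimitsOfSize_op f
    exact (isSheaf_iff_isSheaf_of_type _ _).1 ((isSheaf_canonical_iff J (f.op ⋙ G.obj)).2 inferInstance)
  · haveI : f.IsLeftAdjoint := isLeftAdjoint_of_isSheaf J K f (fun G => by
      rw [← canonical_eq]
      exact f.op_comp_isSheaf_of_types (Sheaf.canonicalTopology _) (Sheaf.canonicalTopology _)
        ⟨yoneda.obj G, (isSheaf_iff_isSheaf_of_type _ _).2 (Sheaf.isSheaf_yoneda_obj G)⟩)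
    exact (Adjunction.ofIsLeftAdjoint f).leftAdjoint_preservesColimits

end Main

end Groth.Agent.Giraud
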