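import Groth.Agent.Giraud.CofanCover
import Mathlib.CategoryTheory.Sites.Canonical
import Mathlib.CategoryTheory.Limits.Shapes.DisjointCoproduct

/-! # Coproducts for the canonical topology -/

set_option autoImplicit false
set_option linter.all false
set_option backward.isDefEq.respectTransparency false
set_option backward.defeqAttrib.useBackward true

universe u

open CategoryTheory CategoryTheory.Limits Opposite

namespace Groth.Agent.Giraud

variable {C : Type u} [SmallCategory C]

local notation "Jc" => Sheaf.canonicalTopology C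

theorem sheaf_yoneda (Z : C) : Presieve.IsSheaf Jc (yoneda.obj Z) :=
  Sheaf.sheaf_for_finestTopology (P := yoneda.obj Z) (Set.range (yoneda (C := C)).obj) ⟨Z, rfl⟩

/-- covering + mono + separated ⇒ coproduct -/
theorem nonempty_isColimit_cofan {X : C} {ι : Type u} {Y : ι → C} (s : ∀ i, Y i ⟶ X)
    (hcov : Sieve.ofArrows Y s ∈ Jc X) (hmono : ∀ i, Mono (s i))
    (hdisj : ∀ ⦃i j⦄, i ≠ j → ∀ ⦃W : C⦄ (a : W ⟶ Y i) (b : W ⟶ Y j), a ≫ s i = b ≫ s j →
      ∀ Z : C, Subsingleton (W ⟶ Z)) :
    Nonempty (IsColimit (Cofan.mk X s)) := by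
  have hsh : ∀ Z : C, Presieve.IsSheafFor (yoneda.obj Z) (Presieve.ofArrows Y s) := fun Z =>
    (Presieve.isSheafFor_iff_generate _).2 (sheaf_yoneda Z _ hcov)
  have hex : ∀ c' : Cofan Y, ∃! f : X ⟶ c'.pt, ∀ i, s i ≫ f = c'.inj i := fun c' => by
    refine (Presieve.isSheafFor_arrows_iff (yoneda.obj c'.pt) s).1 (hsh c'.pt) (fun i => c'.inj i) ?_
    intro i j W a b h
    show a ≫ c'.inj i = b ≫ c'.inj j
    by_cases hij : i = j
    · subst hij
      haveI := hmono i
      rw [(cancel_mono (s i)).1 h]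
    · exact @Subsingleton.elim _ (hdisj hij a b h c'.pt) _ _
  refine ⟨mkCofanColimit _ (fun c' => (hex c').choose) (fun c' i => ?_) (fun c' m hm => ?_)⟩
  · exact (hex c').choose_spec.1 i
  · exact (hex c').choose_spec.2 m hm

theorem canonical_cofan_iff {X : C} {ι : Type u} (Y : ι → C) (s : ∀ i, Y i ⟶ X)
    [∀ (i : ι) (Z : C) (g : Z ⟶ X), HasPullback (s i) g] :
    Nonempty (IsColimit (Cofan.mk
        ((presheafToSheaf Jc (Type u)).obj (yoneda.obj X))
        (fun i => (presheafToSheaf Jc (Type u)).map (yoneda.map (s i))))) ↔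
      (Nonempty (IsColimit (Cofan.mk X s)) ∧ CoproductDisjoint Y ∧
        IsUniversalColimit (Cofan.mk X s)) := by
  rw [← covering_diag_disjoint_iff]
  let L := presheafToSheaf Jc (Type u)
  let T := yoneda ⋙ L
  let eT : T ≅ GrothendieckTopology.yoneda Jc :=
    Functor.isoWhiskerLeft (GrothendieckTopology.yoneda Jc) (asIso (sheafificationAdjunction Jc (Type u)).counit) ≪≫
      Functor.rightUnitor _
  haveI : T.Full := Functor.Full.of_iso eT.symm
  haveI : T.Faithful := Functor.Faithful.of_iso eT.symm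
  constructor
  · rintro ⟨hcov, hdiag, hinit⟩
    have hmono : ∀ i, Mono (s i) := fun i => ⟨fun {W} a b hab => T.map_injective (by
      haveI := hdiag i
      have heq : L.map (pullback.fst (yoneda.map (s i)) (yoneda.map (s i))) =
          L.map (pullback.snd (yoneda.map (s i)) (yoneda.map (s i))) := by
        rw [← cancel_epi (L.map (pullback.diagonal (yoneda.map (s i)))), ← L.map_comp, ← L.map_comp,
          pullback.diagonal_fst, pullback.diagonal_snd]
      let l := pullback.lift (f := yoneda.map (s i)) (g := yoneda.map (s i)) (yoneda.map a) (yoneda.map b)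
        (by rw [← Functor.map_comp, ← Functor.map_comp, hab])
      have := congrArg (L.map l ≫ ·) heq
      simp only [← L.map_comp, l, pullback.lift_fst, pullback.lift_snd] at this
      exact this)⟩
    have hdisj : ∀ ⦃i j⦄, i ≠ j → ∀ ⦃W : C⦄ (a : W ⟶ Y i) (b : W ⟶ Y j), a ≫ s i = b ≫ s j →
        ∀ Z : C, Subsingleton (W ⟶ Z) := fun i j hij W a b h Z => ⟨fun p q => T.map_injective
      (ext_of_initial (hinit i j hij).some (L.map (pullback.lift (yoneda.map a) (yoneda.map b)
        (by rw [← Functor.map_comp, ← Functor.map_comp, h]))) _ _)⟩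
    obtain ⟨hc⟩ := nonempty_isColimit_cofan s hcov hmono hdisj
    refine ⟨⟨hc⟩, ⟨fun {c'} hc' {i j} hij σ hσ => ?_, fun {c'} hc' i => ?_⟩, ?_⟩
    · let e := hc'.coconePointUniqueUpToIso hc
      have he : ∀ k, c'.inj k ≫ e.hom = s k := fun k => IsColimit.comp_coconePointUniqueUpToIso_hom hc' hc ⟨k⟩
      have hw : σ.fst ≫ s i = σ.snd ≫ s j := by
        rw [← he i, ← he j, ← Category.assoc, σ.condition, Category.assoc]
      let g := L.map (pullback.lift (yoneda.map σ.fst) (yoneda.map σ.snd)
        (by rw [← Functor.map_comp, ← Functor.map_comp, hw]))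
      haveI : ∀ Z : C, Subsingleton (σ.pt ⟶ Z) := fun Z => hdisj hij σ.fst σ.snd hw Z
      exact ⟨IsInitial.ofUniqueHom (fun Z => T.preimage (g ≫ (hinit i j hij).some.to _)) (fun Z m => Subsingleton.elim _ _)⟩
    · let e := hc'.coconePointUniqueUpToIso hc
      have he : c'.inj i ≫ e.hom = s i := IsColimit.comp_coconePointUniqueUpToIso_hom hc' hc ⟨i⟩
      haveI := hmono i
      haveI : Mono (c'.inj i ≫ e.hom) := by rw [he]; infer_instance
      exact mono_of_mono (c'.inj i) e.hom
    · intro F' c' α f eq hα H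
      have hw : ∀ k, α.app ⟨k⟩ ≫ s k = c'.ι.app ⟨k⟩ ≫ f := fun k => NatTrans.congr_app eq ⟨k⟩
      have hF : F' = Discrete.functor (fun k => F'.obj ⟨k⟩) :=
        Functor.hext (fun i => rfl) (by rintro ⟨i⟩ ⟨j⟩ ⟨⟨rfl : i = j⟩⟩; simp)
      have hcov' : Sieve.ofArrows (fun k => F'.obj ⟨k⟩) (fun k => c'.ι.app ⟨k⟩) ∈ Jc c'.pt := by
        refine (Jc).superset_covering ?_ ((Jc).pullback_stable f hcov)
        rintro W g ⟨V, q, _, ⟨k⟩, hq⟩
        exact ⟨_, (H ⟨k⟩).lift g q hq.symm, _, ⟨k⟩, (H ⟨k⟩).lift_fst _ _ _⟩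
      obtain ⟨h⟩ := nonempty_isColimit_cofan (fun k => c'.ι.app ⟨k⟩) hcov'
        (fun k => ⟨fun {W} a b hab => (H ⟨k⟩).hom_ext hab ((hmono k).right_cancellation _ _ (by
          show (a ≫ α.app ⟨k⟩) ≫ s k = (b ≫ α.app ⟨k⟩) ≫ s k
          rw [Category.assoc, Category.assoc, hw, reassoc_of% hab]))⟩)
        (fun i j hij W a b hab Z => hdisj hij (a ≫ α.app ⟨i⟩) (b ≫ α.app ⟨j⟩) (by
          rw [Category.assoc, Category.assoc, hw, hw, reassoc_of% hab]) Z)
      let g : ∀ t : Cocone F', Cofan (fun k => F'.obj ⟨k⟩) := fun t => Cofan.mk t.pt (fun k => t.ι.app ⟨k⟩)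
      exact ⟨{ desc := fun t => h.desc (g t)
               fac := fun t => fun ⟨k⟩ => h.fac (g t) ⟨k⟩
               uniq := fun t m hm => h.uniq (g t) m fun ⟨k⟩ => hm ⟨k⟩ }⟩
  · rintro ⟨⟨hc⟩, hdis, huniv⟩
    haveI hmono : ∀ i, Mono (s i) := fun i => hdis.mono_inj hc i
    refine ⟨?_, fun i => ?_, fun i j hij => ⟨?_⟩⟩
    · apply Sheaf.mem_finestTopology_of_forall_isSheafFor
      rintro _ ⟨Z, rfl⟩ W g
      have hsh : Presieve.IsSheafFor (yoneda.obj Z) (Presieve.ofArrows (fun k => pullback (s k) g) (fun k => pullback.snd (s k) g)) := by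
        rw [Presieve.isSheafFor_arrows_iff]
        intro x hx
        obtain ⟨hW⟩ := huniv (Cofan.mk W (fun k => pullback.snd (s k) g))
          (Discrete.natTrans (fun k => pullback.fst (s k.as) g)) g
          (by
            refine NatTrans.ext (funext ?_)
            rintro ⟨k⟩
            exact pullback.condition (f := s k) (g := g))
          (NatTrans.Equifibered.of_discrete _) (fun ⟨k⟩ => (IsPullback.of_hasPullback (s k) g).flip)
        refine ⟨hW.desc (Cofan.mk Z x), fun k => hW.fac (Cofan.mk Z x) ⟨k⟩, fun m hm => hW.uniq (Cofan.mk Z x) m fun ⟨k⟩ => hm k⟩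
      rw [Presieve.isSheafFor_iff_generate] at hsh
      convert hsh using 2
      ext V q
      constructor
      · rintro ⟨V', l, _, ⟨k⟩, hl⟩
        exact ⟨_, pullback.lift l q hl, _, ⟨k⟩, pullback.lift_snd _ _ _⟩
      · rintro ⟨V', l, _, ⟨k⟩, rfl⟩
        exact ⟨_, l ≫ pullback.fst (s k) g, _, ⟨k⟩, by rw [Category.assoc, pullback.condition, Category.assoc]⟩
    · infer_instance
    · have hpb : IsPullback (yoneda.map (pullback.fst (s i) (s j))) (yoneda.map (pullback.snd (s i) (s j)))
          (yoneda.map (s i)) (yoneda.map (s j)) := (IsPullback.of_hasPullback (s i) (s j)).map yoneda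
      have hP : IsInitial (pullback (s i) (s j)) :=
        (hdis.nonempty_isInitial_of_ne hc hij (pullback.cone (s i) (s j)) (pullback.isLimit (s i) (s j))).some
      refine IsInitial.ofIso (X := L.obj (yoneda.obj (pullback (s i) (s j)))) ?_ (L.mapIso hpb.isoPullback)
      have hsub : ∀ {W : C}, (W ⟶ pullback (s i) (s j)) → ∀ Z : C, Subsingleton (W ⟶ Z) := fun {W} m Z => by
        let g := m ≫ pullback.fst (s i) (s j) ≫ s i
        obtain ⟨hW⟩ := huniv (Cofan.mk W (fun k => pullback.snd (s k) g))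
          (Discrete.natTrans (fun k => pullback.fst (s k.as) g)) g
          (by
            refine NatTrans.ext (funext ?_)
            rintro ⟨k⟩
            exact pullback.condition (f := s k) (g := g))
          (NatTrans.Equifibered.of_discrete _) (fun ⟨k⟩ => (IsPullback.of_hasPullback (s k) g).flip)
        classical
        refine ⟨fun p q => ?_⟩
        let x : Cofan (fun k => pullback (s k) g) :=
          Cofan.mk Z (fun k => if k = i then pullback.snd (s k) g ≫ p else pullback.snd (s k) g ≫ q)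
        let li := pullback.lift (f := s i) (g := g) (m ≫ pullback.fst (s i) (s j)) (𝟙 W) (by simp [g])
        let lj := pullback.lift (f := s j) (g := g) (m ≫ pullback.snd (s i) (s j)) (𝟙 W)
          (by simp [g, pullback.condition])
        have hi := congrArg (li ≫ ·) (hW.fac x ⟨i⟩)
        have hj := congrArg (lj ≫ ·) (hW.fac x ⟨j⟩)
        simp [x, li, lj, Ne.symm hij] at hi hj
        exact hi.symm.trans hj
      have hemp : (⊥ : Sieve (pullback (s i) (s j))) ∈ Jc _ := by
        apply Sheaf.mem_finestTopology_of_forall_isSheafFor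
        rintro _ ⟨Z, rfl⟩ W g
        intro x hx
        exact ⟨g ≫ hP.to Z, fun V q hq => hq.elim, fun m _ => @Subsingleton.elim _ (hsub g Z) _ _⟩
      have hsing : ∀ Z : Sheaf Jc (Type u), ∃! z : Z.obj.obj (op (pullback (s i) (s j))), True := fun Z => by
        obtain ⟨z, -, hz⟩ := ((isSheaf_iff_isSheaf_of_type Jc Z.obj).1 Z.property _ hemp) (fun V q hq => hq.elim)
          (fun V₁ V₂ W g₁ g₂ f₁ f₂ h₁ => h₁.elim)
        exact ⟨z, trivial, fun z' _ => hz z' (fun V q hq => hq.elim)⟩
      exact IsInitial.ofUniqueHom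
        (fun Z => ((sheafificationAdjunction Jc (Type u)).homEquiv _ _).symm (yonedaEquiv.symm (hsing Z).choose))
        (fun Z m => by
          apply ((sheafificationAdjunction Jc (Type u)).homEquiv _ _).injective
          apply yonedaEquiv.injective
          exact ((hsing Z).unique trivial trivial))

end Groth.Agent.Giraud
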