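import Groth.Agent.Giraud.SheafAxioms
import Mathlib.CategoryTheory.Sites.EpiMono
import Mathlib.CategoryTheory.Limits.Shapes.Diagonal
import Mathlib.CategoryTheory.Sites.Localization

/-! # When is an associated sheaf the coproduct of a family -/

set_option autoImplicit false
set_option linter.all false
set_option backward.isDefEq.respectTransparency false
set_option backward.defeqAttrib.useBackward true

universe u

open CategoryTheory CategoryTheory.Limits Opposite

namespace Groth.Agent.Giraud

variable {C : Type u} [SmallCategory C] {J : GrothendieckTopology C}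

theorem cofan_ext {κ : Type u} {Z : κ → Sheaf J (Type u)} {c : Cofan Z} (hc : IsColimit c)
    {T W : Sheaf J (Type u)} (a : T ⟶ c.pt) (p q : T ⟶ W)
    (h : ∀ k, pullback.fst a (c.inj k) ≫ p = pullback.fst a (c.inj k) ≫ q) : p = q := by
  obtain ⟨hT⟩ := (sheaf_cofan_isVanKampen c hc).isUniversal
    (Cofan.mk T (fun k => pullback.fst a (c.inj k)))
    (Discrete.natTrans (fun k => pullback.snd a (c.inj k.as))) a (by
      refine NatTrans.ext (funext ?_)
      rintro ⟨k⟩
      exact (pullback.condition (f := a) (g := c.inj k)).symm)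
    (NatTrans.Equifibered.of_discrete _) (fun ⟨k⟩ => IsPullback.of_hasPullback _ _)
  exact hT.hom_ext fun ⟨k⟩ => h k

theorem ext_of_initial {T W P : Sheaf J (Type u)} (hP : IsInitial P) (g : T ⟶ P) (p q : T ⟶ W) : p = q := by
  let c : Cofan (fun k : PEmpty.{u + 1} => (k.elim : Sheaf J (Type u))) := Cofan.mk P fun k => k.elim
  have hc : IsColimit c := mkCofanColimit _ (fun s => hP.to s.pt) (fun s k => k.elim) (fun s m _ => hP.hom_ext _ _)
  exact cofan_ext hc g p q fun k => k.elim

theorem covering_diag_disjoint_iff {X : C} {ι : Type u} (Y : ι → C) (s : ∀ i, Y i ⟶ X) :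
    (Sieve.ofArrows Y s ∈ J X ∧
      (∀ i, IsIso ((presheafToSheaf J (Type u)).map (pullback.diagonal (yoneda.map (s i))))) ∧
      (∀ i j, i ≠ j → Nonempty (IsInitial ((presheafToSheaf J (Type u)).obj
        (pullback (yoneda.map (s i)) (yoneda.map (s j))))))) ↔
    Nonempty (IsColimit (Cofan.mk ((presheafToSheaf J (Type u)).obj (yoneda.obj X))
      (fun i => (presheafToSheaf J (Type u)).map (yoneda.map (s i))))) := by
  let L := presheafToSheaf J (Type u)
  let t := fun i => L.map (yoneda.map (s i))
  have hP : ∀ i j, IsPullback (L.map (pullback.fst (yoneda.map (s i)) (yoneda.map (s j))))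
      (L.map (pullback.snd (yoneda.map (s i)) (yoneda.map (s j)))) (t i) (t j) := fun i j =>
    (IsPullback.of_hasPullback _ _).map L
  constructor
  · rintro ⟨hcov, hdiag, hinit⟩
    have heq : ∀ i, L.map (pullback.fst (yoneda.map (s i)) (yoneda.map (s i))) =
        L.map (pullback.snd (yoneda.map (s i)) (yoneda.map (s i))) := fun i => by
      haveI := hdiag i
      rw [← cancel_epi (L.map (pullback.diagonal (yoneda.map (s i)))), ← L.map_comp, ← L.map_comp,
        pullback.diagonal_fst, pullback.diagonal_snd]
    let d : (∐ fun i => L.obj (yoneda.obj (Y i))) ⟶ L.obj (yoneda.obj X) := Sigma.desc t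
    haveI : Epi d := ⟨fun {Z} a b hab => by
      have hab' : ∀ i, t i ≫ a = t i ≫ b := fun i => by
        have := congrArg (Sigma.ι (fun i => L.obj (yoneda.obj (Y i))) i ≫ ·) hab
        simpa [d] using this
      let E := (sheafificationAdjunction J (Type u)).homEquiv
      apply (E _ _).injective
      apply yonedaEquiv.injective
      refine (((isSheaf_iff_isSheaf_of_type J Z.obj).1 Z.property) _ hcov).isSeparatedFor.ext
        (t₁ := yonedaEquiv (E _ _ a)) (t₂ := yonedaEquiv (E _ _ b)) ?_
      rintro W g ⟨V, q, _, ⟨i⟩, rfl⟩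
      rw [op_comp, Functor.map_comp_apply, Functor.map_comp_apply]
      refine congrArg _ ?_
      show (((sheafToPresheaf J (Type u)).obj Z).map (s i).op) _ = (((sheafToPresheaf J (Type u)).obj Z).map (s i).op) _
      erw [yonedaEquiv_naturality, yonedaEquiv_naturality]
      refine congrArg yonedaEquiv ?_
      rw [← Adjunction.homEquiv_naturality_left, ← Adjunction.homEquiv_naturality_left]
      exact congrArg _ (hab' i)⟩
    haveI : Mono d := ⟨fun {T} a b hab => by
      let hc := coproductIsCoproduct (fun i => L.obj (yoneda.obj (Y i)))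
      refine cofan_ext hc a a b fun i => ?_
      refine cofan_ext hc (pullback.fst a _ ≫ b) _ _ fun j => ?_
      let f := pullback.fst (pullback.fst a (Sigma.ι (fun i => L.obj (yoneda.obj (Y i))) i) ≫ b)
        (Sigma.ι (fun i => L.obj (yoneda.obj (Y i))) j)
      let α := f ≫ pullback.snd a (Sigma.ι (fun i => L.obj (yoneda.obj (Y i))) i)
      let β := pullback.snd (pullback.fst a (Sigma.ι (fun i => L.obj (yoneda.obj (Y i))) i) ≫ b)
        (Sigma.ι (fun i => L.obj (yoneda.obj (Y i))) j)
      have hα : f ≫ pullback.fst a _ ≫ a = α ≫ Sigma.ι (fun i => L.obj (yoneda.obj (Y i))) i := by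
        rw [pullback.condition, Category.assoc]
      have hβ : f ≫ pullback.fst a _ ≫ b = β ≫ Sigma.ι (fun i => L.obj (yoneda.obj (Y i))) j := pullback.condition
      have hαβ : α ≫ t i = β ≫ t j := by
        have h1 := congrArg (f ≫ pullback.fst a _ ≫ ·) hab
        rw [← Category.assoc (pullback.fst a _), ← Category.assoc f, hα, ← Category.assoc (pullback.fst a _) b,
          ← Category.assoc f, hβ] at h1
        simpa [d] using h1
      show f ≫ pullback.fst a _ ≫ a = f ≫ pullback.fst a _ ≫ b
      by_cases hij : i = j
      · subst hij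
        rw [hα, hβ]
        have hab2 : α = β := ((hP i i).lift_fst α β hαβ).symm.trans
          ((congrArg ((hP i i).lift α β hαβ ≫ ·) (heq i)).trans ((hP i i).lift_snd α β hαβ))
        rw [hab2]
      · exact ext_of_initial (hinit i j hij).some ((hP i j).lift α β hαβ) _ _⟩
    haveI : IsIso d := isIso_of_mono_of_epi d
    exact ⟨IsColimit.ofIsoColimit (coproductIsCoproduct _) (Cocone.ext (asIso d) (fun ⟨i⟩ => by
      show Sigma.ι _ i ≫ d = t i
      simp [d]))⟩
  · rintro ⟨hc⟩
    have hV := sheaf_cofan_isVanKampen _ hc
    refine ⟨?_, fun i => ?_, fun i j hij => ?_⟩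
    · let S := Sieve.ofArrows Y s
      haveI : Epi (L.map S.functorInclusion) := ⟨fun {Z} a b hab => hc.hom_ext fun ⟨i⟩ => by
        let m : yoneda.obj (Y i) ⟶ S.functor :=
          { app := fun W => ↾fun g => ⟨g ≫ s i, ⟨Y i, g, s i, ⟨i⟩, rfl⟩⟩
            naturality := fun W V h => by
              ext g
              exact Subtype.ext (Category.assoc _ _ _) }
        have hm : m ≫ S.functorInclusion = yoneda.map (s i) := rfl
        show t i ≫ a = t i ≫ b
        simp only [t]
        rw [← hm, L.map_comp, Category.assoc, Category.assoc, hab]⟩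
      haveI : Mono S.functorInclusion := by
        haveI : ∀ W, Mono (S.functorInclusion.app W) := fun W => (mono_iff_injective _).2 fun a b h => Subtype.ext h
        exact NatTrans.mono_of_mono_app _
      haveI : IsIso (L.map S.functorInclusion) := isIso_of_mono_of_epi _
      haveI : Presheaf.IsLocallySurjective J S.functorInclusion :=
        (((J.W_iff_isLocallyBijective _).1 ((J.W_iff _).2 inferInstance))).2
      refine J.superset_covering ?_ (Presheaf.imageSieve_mem J S.functorInclusion (U := op X) (𝟙 X))
      rintro W g ⟨a, ha⟩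
      have : a.1 = g := ha.trans (Category.comp_id g)
      exact this ▸ a.2
    · haveI : Mono (t i) := mono_of_cofan_isVanKampen hV ⟨i⟩
      have heq : L.map (pullback.fst (yoneda.map (s i)) (yoneda.map (s i))) =
          L.map (pullback.snd (yoneda.map (s i)) (yoneda.map (s i))) := (cancel_mono (t i)).1 (hP i i).w
      refine ⟨L.map (pullback.fst (yoneda.map (s i)) (yoneda.map (s i))), ?_, ?_⟩
      · rw [← L.map_comp, pullback.diagonal_fst, L.map_id]
      · apply (hP i i).hom_ext
        · rw [Category.assoc, ← L.map_comp, pullback.diagonal_fst, L.map_id]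
          exact (Category.comp_id _).trans (Category.id_comp _).symm
        · rw [Category.assoc, ← L.map_comp, pullback.diagonal_snd, L.map_id, heq]
          exact (Category.comp_id _).trans (Category.id_comp _).symm
    · have h := isPullback_initial_to_of_cofan_isVanKampen hV ⟨i⟩ ⟨j⟩ (fun e => hij (congrArg Discrete.as e))
      exact ⟨initialIsInitial.ofIso (IsLimit.conePointUniqueUpToIso h.isLimit (hP i j).isLimit)⟩

end Groth.Agent.Giraud
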