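import Groth.Prelude.Def_SGA4a
import Mathlib.CategoryTheory.Limits.VanKampen
import Mathlib.CategoryTheory.Generator.Basic
import Mathlib.CategoryTheory.EffectiveEpi.Comp

/-! # Covering families in a category satisfying the axioms of Giraud -/

set_option autoImplicit false
set_option linter.all false
set_option backward.isDefEq.respectTransparency false
set_option backward.defeqAttrib.useBackward true

universe v u

open CategoryTheory CategoryTheory.Limits

namespace Groth.Agent.Giraud

/-- The exactness axioms, plus a small family of detecting objects. -/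
structure Axioms (E : Type v) [Category.{u} E] [HasFiniteLimits E] where
  hb : SGA4.HasDisjointUniversalCoproducts.{v, u} E
  hc : ∀ (R A : E) (p₁ p₂ : R ⟶ A), SGA4.IsEquivRel p₁ p₂ → SGA4.IsEffectiveUniversalEquivRel p₁ p₂
  ι : Type u
  G : ι → E
  det : ∀ ⦃X Y : E⦄ (f : X ⟶ Y), (∀ (i : ι) (h : G i ⟶ Y), ∃! h' : G i ⟶ X, h' ≫ f = h) → IsIso f

variable {E : Type v} [Category.{u} E] [HasFiniteLimits E]

/-- every monomorphism containing the family is an isomorphism -/
def Cov {X : E} {κ : Type u} {Y : κ → E} (f : ∀ k, Y k ⟶ X) : Prop :=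
  ∀ (M : E) (m : M ⟶ X), Mono m → (∀ k, ∃ l : Y k ⟶ M, l ≫ m = f k) → IsIso m

lemma Cov.hom_ext {X Z : E} {κ : Type u} {Y : κ → E} {f : ∀ k, Y k ⟶ X} (hf : Cov f) {a b : X ⟶ Z}
    (h : ∀ k, f k ≫ a = f k ≫ b) : a = b := by
  haveI := hf _ (equalizer.ι a b) inferInstance (fun k => ⟨equalizer.lift (f k) (h k), equalizer.lift_ι _ _⟩)
  exact (cancel_epi (equalizer.ι a b)).1 (equalizer.condition a b)

/-- a mono through which the family factors, after precomposition with a covering -/
lemma Cov.factors {X Z M : E} {κ : Type u} {Y : κ → E} {f : ∀ k, Y k ⟶ X} (hf : Cov f) (m : M ⟶ Z) [Mono m]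
    (a : X ⟶ Z) (h : ∀ k, ∃ l : Y k ⟶ M, l ≫ m = f k ≫ a) : ∃ l : X ⟶ M, l ≫ m = a := by
  haveI := hf _ (pullback.fst a m) inferInstance (fun k => by
    obtain ⟨l, hl⟩ := h k
    exact ⟨pullback.lift (f k) l hl.symm, pullback.lift_fst _ _ _⟩)
  refine ⟨inv (pullback.fst a m) ≫ pullback.snd a m, ?_⟩
  rw [Category.assoc, ← pullback.condition, IsIso.inv_hom_id_assoc]

lemma cov_of_isColimit {κ : Type u} {Y : κ → E} {c : Cofan Y} (hc : IsColimit c) : Cov c.inj := by
  intro M m hm h
  choose l hl using h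
  refine ⟨Cofan.IsColimit.desc hc l, ?_, ?_⟩
  · rw [← cancel_mono m, Category.assoc, Category.id_comp]
    have : Cofan.IsColimit.desc hc l ≫ m = 𝟙 _ :=
      Cofan.IsColimit.hom_ext hc _ _ (fun k => by rw [Cofan.IsColimit.fac_assoc, hl, Category.comp_id])
    rw [this, Category.comp_id]
  · exact Cofan.IsColimit.hom_ext hc _ _ (fun k => by rw [Cofan.IsColimit.fac_assoc, hl, Category.comp_id])

variable (S : Axioms E)

namespace Axioms

noncomputable def cofan {κ : Type u} (Y : κ → E) : Cofan Y := (S.hb κ Y).choose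

noncomputable def cofanIsColimit {κ : Type u} (Y : κ → E) : IsColimit (S.cofan Y) :=
  (S.hb κ Y).choose_spec.choose

include S in
lemma cofan_disjoint {κ : Type u} (Y : κ → E) : CoproductDisjoint Y :=
  (S.hb κ Y).choose_spec.choose_spec.1

lemma cofan_universal {κ : Type u} (Y : κ → E) : IsUniversalColimit (S.cofan Y) :=
  (S.hb κ Y).choose_spec.choose_spec.2

lemma cofan_pullback {κ : Type u} (Y : κ → E) {P : E} (f : P ⟶ (S.cofan Y).pt) :
    Nonempty (IsColimit (Cofan.mk P (fun k => pullback.fst f ((S.cofan Y).inj k)))) := by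
  refine S.cofan_universal Y (Cofan.mk P (fun k => pullback.fst f ((S.cofan Y).inj k)))
    (Discrete.natTrans (fun k => pullback.snd f ((S.cofan Y).inj k.as))) f ?_ (NatTrans.Equifibered.of_discrete _) ?_
  · ext ⟨k⟩
    exact (pullback.condition (f := f) (g := (S.cofan Y).inj k)).symm
  · rintro ⟨k⟩
    exact IsPullback.of_hasPullback _ _

lemma isEquivRel_kernelPair {A X : E} (d : A ⟶ X) :
    SGA4.IsEquivRel (pullback.fst d d) (pullback.snd d d) := by
  intro T
  refine ⟨fun a b h => ?_, fun a => ?_, @fun a b h => ?_, @fun a b c h h' => ?_⟩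
  · simp only [Prod.mk.injEq] at h
    exact pullback.hom_ext h.1 h.2
  · exact ⟨pullback.lift a a rfl, pullback.lift_fst _ _ _, pullback.lift_snd _ _ _⟩
  · obtain ⟨f, hf, hg⟩ := h
    refine ⟨pullback.lift b a ?_, pullback.lift_fst _ _ _, pullback.lift_snd _ _ _⟩
    rw [← hf, ← hg, Category.assoc, Category.assoc, pullback.condition]
  · obtain ⟨f, hf, hg⟩ := h
    obtain ⟨f', hf', hg'⟩ := h'
    refine ⟨pullback.lift a c ?_, pullback.lift_fst _ _ _, pullback.lift_snd _ _ _⟩
    rw [← hf, Category.assoc, pullback.condition, ← Category.assoc, hg, ← hf', Category.assoc,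
      pullback.condition, ← Category.assoc, hg']

include S in
/-- image factorization of a morphism -/
lemma exists_image {A X : E} (d : A ⟶ X) :
    ∃ (Q : E) (π : A ⟶ Q) (m : Q ⟶ X), Mono m ∧ π ≫ m = d ∧
      IsPushout (pullback.fst d d) (pullback.snd d d) π π ∧
      ∀ (B : E) (g : B ⟶ Q), EffectiveEpi (pullback.snd π g) := by
  obtain ⟨Q, π, hpb, hpo, hu⟩ := S.hc _ _ _ _ (isEquivRel_kernelPair d)
  let m : Q ⟶ X := hpo.desc d d pullback.condition
  have hm : π ≫ m = d := hpo.inl_desc _ _ _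
  refine ⟨Q, π, m, ⟨fun {T} a b hab => ?_⟩, hm, hpo, hu⟩
  haveI := hu _ a
  haveI := hu _ (pullback.snd π a ≫ b)
  rw [← cancel_epi (pullback.snd π a), ← cancel_epi (pullback.snd π (pullback.snd π a ≫ b))]
  have h1 : pullback.fst π (pullback.snd π a ≫ b) ≫ π =
      pullback.snd π (pullback.snd π a ≫ b) ≫ pullback.snd π a ≫ b := pullback.condition
  have h2 : pullback.fst π a ≫ π = pullback.snd π a ≫ a := pullback.condition
  rw [← h1, ← h2]
  let r := pullback.lift (f := d) (g := d) (pullback.snd π (pullback.snd π a ≫ b) ≫ pullback.fst π a)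
    (pullback.fst π (pullback.snd π a ≫ b)) (by
      rw [← hm, Category.assoc, reassoc_of% h2, reassoc_of% h1, hab])
  have h3 := congrArg (r ≫ ·) hpb.w
  simpa [r, pullback.lift_fst_assoc, pullback.lift_snd_assoc] using h3

include S in
/-- a covering family gives a universally effective epimorphism -/
lemma effective_of_cov {X : E} {κ : Type u} {Y : κ → E} {f : ∀ k, Y k ⟶ X} (hf : Cov f)
    {A : E} (d : A ⟶ X) (hd : ∀ k, ∃ l : Y k ⟶ A, l ≫ d = f k) :
    IsPushout (pullback.fst d d) (pullback.snd d d) d d ∧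
      ∀ (B : E) (g : B ⟶ X), EffectiveEpi (pullback.snd d g) := by
  obtain ⟨Q, π, m, hmono, hm, hpo, hu⟩ := S.exists_image d
  haveI : IsIso m := hf Q m hmono (fun k => by
    obtain ⟨l, hl⟩ := hd k
    exact ⟨l ≫ π, by rw [Category.assoc, hm, hl]⟩)
  refine ⟨hpo.of_iso (Iso.refl _) (Iso.refl _) (Iso.refl _) (asIso m) (by simp) (by simp) (by simpa using hm)
    (by simpa using hm), fun B g => ?_⟩
  let e : pullback d g ≅ pullback π (g ≫ inv m) :=
    { hom := pullback.lift (pullback.fst d g) (pullback.snd d g) (by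
        rw [← Category.assoc, IsIso.eq_comp_inv, Category.assoc, hm, pullback.condition])
      inv := pullback.lift (pullback.fst π (g ≫ inv m)) (pullback.snd π (g ≫ inv m)) (by
        rw [← hm, ← Category.assoc, pullback.condition, Category.assoc, Category.assoc, IsIso.inv_hom_id,
          Category.comp_id])
      hom_inv_id := by ext <;> simp
      inv_hom_id := by ext <;> simp }
  haveI := hu _ (g ≫ inv m)
  have : pullback.snd d g = e.hom ≫ pullback.snd π (g ≫ inv m) := (pullback.lift_snd _ _ _).symm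
  rw [this]
  haveI : IsSplitEpi e.hom := IsSplitEpi.mk' ⟨e.inv, e.inv_hom_id⟩
  infer_instance

include S in
/-- covering families are stable under base change -/
lemma cov_pullback {X V : E} {κ : Type u} {Y : κ → E} {f : ∀ k, Y k ⟶ X} (hf : Cov f) (g : V ⟶ X) :
    Cov (fun k => pullback.snd (f k) g) := by
  intro M m hm h
  let d : (S.cofan Y).pt ⟶ X := Cofan.IsColimit.desc (S.cofanIsColimit Y) f
  have hd : ∀ k, (S.cofan Y).inj k ≫ d = f k := Cofan.IsColimit.fac _ _
  haveI := (S.effective_of_cov hf d (fun k => ⟨_, hd k⟩)).2 V g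
  obtain ⟨hcol⟩ := S.cofan_pullback Y (pullback.fst d g)
  have hfac : ∃ l, l ≫ m = pullback.snd d g := by
    refine (cov_of_isColimit hcol).factors m _ (fun k => ?_)
    obtain ⟨l, hl⟩ := h k
    refine ⟨pullback.lift (pullback.snd (pullback.fst d g) ((S.cofan Y).inj k))
      (pullback.fst (pullback.fst d g) ((S.cofan Y).inj k) ≫ pullback.snd d g) ?_ ≫ l, ?_⟩
    · rw [← hd, ← Category.assoc, ← pullback.condition, Category.assoc, Category.assoc, pullback.condition]
    · rw [Category.assoc, hl, pullback.lift_snd]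
      rfl
  obtain ⟨l, hl⟩ := hfac
  let r : V ⟶ M := EffectiveEpi.desc (pullback.snd d g) l (fun {Z} a b hab => by
    rw [← cancel_mono m, Category.assoc, Category.assoc, hl, hab])
  have hr : r ≫ m = 𝟙 V := by
    rw [← cancel_epi (pullback.snd d g), ← Category.assoc, EffectiveEpi.fac, hl, Category.comp_id]
  exact ⟨r, by rw [← cancel_mono m, Category.assoc, hr, Category.comp_id, Category.id_comp], hr⟩

include S in
/-- the detecting objects cover every object -/
lemma cov_gen (T : E) : Cov (fun p : Σ i, (S.G i ⟶ T) => p.2) := by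
  intro M m hm h
  refine S.det m (fun i t => ?_)
  obtain ⟨l, hl⟩ := h ⟨i, t⟩
  exact ⟨l, hl, fun y hy => by rw [← cancel_mono m]; exact hy.trans hl.symm⟩

include S in
lemma gen_hom_ext {T Z : E} {a b : T ⟶ Z} (h : ∀ (i : S.ι) (t : S.G i ⟶ T), t ≫ a = t ≫ b) : a = b :=
  (S.cov_gen T).hom_ext (fun p => h p.1 p.2)

include S in
/-- two morphisms out of the kernel pair agree as soon as they agree on the pieces -/
lemma exists_desc {X Z : E} {κ : Type u} {Y : κ → E} {f : ∀ k, Y k ⟶ X} (hf : Cov f) (φ : ∀ k, Y k ⟶ Z)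
    (h : ∀ (k l : κ) (i : S.ι) (a : S.G i ⟶ Y k) (b : S.G i ⟶ Y l), a ≫ f k = b ≫ f l → a ≫ φ k = b ≫ φ l) :
    ∃ ψ : X ⟶ Z, ∀ k, f k ≫ ψ = φ k := by
  let d : (S.cofan Y).pt ⟶ X := Cofan.IsColimit.desc (S.cofanIsColimit Y) f
  have hd : ∀ k, (S.cofan Y).inj k ≫ d = f k := Cofan.IsColimit.fac _ _
  let φ' : (S.cofan Y).pt ⟶ Z := Cofan.IsColimit.desc (S.cofanIsColimit Y) φ
  have hφ : ∀ k, (S.cofan Y).inj k ≫ φ' = φ k := Cofan.IsColimit.fac _ _
  have key : pullback.fst d d ≫ φ' = pullback.snd d d ≫ φ' := by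
    obtain ⟨h1⟩ := S.cofan_pullback Y (pullback.fst d d)
    refine (cov_of_isColimit h1).hom_ext (fun k => ?_)
    obtain ⟨h2⟩ := S.cofan_pullback Y (pullback.fst (pullback.fst d d) ((S.cofan Y).inj k) ≫ pullback.snd d d)
    refine (cov_of_isColimit h2).hom_ext (fun l => ?_)
    refine S.gen_hom_ext (fun i t => ?_)
    let p1 := pullback.fst (pullback.fst d d) ((S.cofan Y).inj k)
    let p2 := pullback.snd (pullback.fst d d) ((S.cofan Y).inj k)
    let q1 := pullback.fst (p1 ≫ pullback.snd d d) ((S.cofan Y).inj l)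
    let q2 := pullback.snd (p1 ≫ pullback.snd d d) ((S.cofan Y).inj l)
    have e1 : p1 ≫ pullback.fst d d = p2 ≫ (S.cofan Y).inj k := pullback.condition
    have e2 : q1 ≫ p1 ≫ pullback.snd d d = q2 ≫ (S.cofan Y).inj l := pullback.condition
    have := h k l i (t ≫ q1 ≫ p2) (t ≫ q2) (by
      simp only [Category.assoc]
      rw [← hd k, ← reassoc_of% e1, ← hd l, ← reassoc_of% e2, pullback.condition])
    rw [← hφ k, ← hφ l] at this
    simp only [Category.assoc, ← reassoc_of% e1, ← reassoc_of% e2] at this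
    exact this
  refine ⟨(S.effective_of_cov hf d (fun k => ⟨_, hd k⟩)).1.desc φ' φ' key, fun k => ?_⟩
  rw [← hd, Category.assoc, IsPushout.inl_desc, hφ]

end Axioms

end Groth.Agent.Giraud
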