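import Groth.Agent.Giraud.SheafAxioms
import Mathlib.CategoryTheory.Sites.Canonical
import Mathlib.CategoryTheory.Sites.EffectiveEpimorphic
import Mathlib.CategoryTheory.Sites.EpiMono
import Mathlib.CategoryTheory.Limits.Preserves.Shapes.Equalizers

/-! # Effective universal equivalence relations and the canonical topology -/

set_option autoImplicit false
set_option linter.all false
set_option backward.isDefEq.respectTransparency false
set_option backward.defeqAttrib.useBackward true

universe u

open CategoryTheory CategoryTheory.Limits Opposite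

namespace Groth.Agent.Giraud

variable {C : Type u} [SmallCategory C]

local notation "Jc" => Sheaf.canonicalTopology C
local notation "Y" => GrothendieckTopology.yoneda (Sheaf.canonicalTopology C)

instance canonicalYoneda_preservesLimits : PreservesLimitsOfSize.{0, 0} Y :=
  haveI : PreservesLimitsOfSize.{0, 0} (Y ⋙ sheafToPresheaf Jc (Type u)) :=
    inferInstanceAs (PreservesLimitsOfSize.{0, 0} (yoneda (C := C)))
  preservesLimits_of_reflects_of_preserves Y (sheafToPresheaf Jc (Type u))

theorem effectiveUniversal_iff [HasPullbacks C] {R X : C} (p₁ p₂ : R ⟶ X)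
    (hR : SGA4.IsEquivRel p₁ p₂) (c : Cofork p₁ p₂) (hc : IsColimit c) :
    SGA4.IsEffectiveUniversalEquivRel p₁ p₂ ↔
      Nonempty (IsColimit ((yoneda ⋙ presheafToSheaf Jc (Type u)).mapCocone c)) := by
  let e : yoneda ⋙ presheafToSheaf Jc (Type u) ≅ Y :=
    Functor.isoWhiskerLeft Y (asIso (sheafificationAdjunction Jc (Type u)).counit) ≪≫ Functor.rightUnitor _
  obtain ⟨r, hr₁, hr₂⟩ := (hR X).2.refl (𝟙 X)
  have hpo : IsPushout p₁ p₂ c.π c.π := by
    have hw : ∀ s : PushoutCocone p₁ p₂, s.inl = s.inr := fun s => by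
      have := congrArg (r ≫ ·) s.condition
      simpa [reassoc_of% hr₁, reassoc_of% hr₂] using this
    refine IsPushout.of_isColimit' ⟨c.condition⟩ (PushoutCocone.IsColimit.mk _
      (fun s => Cofork.IsColimit.desc hc s.inl (s.condition.trans (congrArg (p₂ ≫ ·) (hw s)).symm))
      (fun s => Cofork.IsColimit.π_desc' hc _ _) (fun s => (Cofork.IsColimit.π_desc' hc _ _).trans (hw s))
      (fun s m h₁ h₂ => Cofork.IsColimit.hom_ext hc (h₁.trans (Cofork.IsColimit.π_desc' hc _ _).symm)))
  constructor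
  · rintro ⟨B, π, hk, hp, hu⟩
    have hu' : ∀ (B' : C) (g : B' ⟶ c.pt), EffectiveEpi (pullback.snd c.π g) := fun B' g => by
      let i : c.pt ≅ B := hpo.isoIsPushout _ _ hp
      have hi : c.π ≫ i.hom = π := hpo.inl_isoIsPushout_hom _ _ hp
      haveI := hu B' (g ≫ i.hom)
      have w : pullback.fst π (g ≫ i.hom) ≫ c.π = pullback.snd π (g ≫ i.hom) ≫ g := by
        rw [← cancel_mono i.hom, Category.assoc, hi, pullback.condition, Category.assoc]
      let ee : pullback c.π g ≅ pullback π (g ≫ i.hom) :=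
        { hom := pullback.lift (pullback.fst c.π g) (pullback.snd c.π g) (by rw [← hi, pullback.condition_assoc])
          inv := pullback.lift (pullback.fst π (g ≫ i.hom)) (pullback.snd π (g ≫ i.hom)) w
          hom_inv_id := by ext <;> simp
          inv_hom_id := by ext <;> simp }
      have : pullback.snd c.π g = ee.hom ≫ pullback.snd π (g ≫ i.hom) := (pullback.lift_snd _ _ _).symm
      rw [this]
      haveI : IsSplitEpi ee.hom := IsSplitEpi.mk' ⟨ee.inv, ee.inv_hom_id⟩
      infer_instance
    have hk' : IsPullback p₁ p₂ c.π c.π := by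
      let i : c.pt ≅ B := hpo.isoIsPushout _ _ hp
      have hi : c.π ≫ i.hom = π := hpo.inl_isoIsPushout_hom _ _ hp
      exact hk.of_iso (Iso.refl _) (Iso.refl _) (Iso.refl _) i.symm (by simp) (by simp)
        (by simp [← hi]) (by simp [← hi])
    have hcov : Sieve.generate (Presieve.singleton c.π) ∈ Jc c.pt := by
      apply Sheaf.mem_finestTopology_of_forall_isSheafFor
      rintro _ ⟨Z, rfl⟩ B' g
      haveI := hu' B' g
      have := (Presieve.EffectiveEpimorphic.iff_forall_isSheafFor_yoneda _).1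
        ((Sieve.effectiveEpimorphic_singleton (pullback.snd c.π g)).2 inferInstance) Z
      rw [Presieve.isSheafFor_iff_generate] at this
      convert this using 2
      rw [← Sieve.pullbackArrows_comm, Presieve.pullback_singleton]
    refine ⟨(IsColimit.mapCoconeEquiv e.symm) ?_⟩
    refine IsColimit.ofIsoColimit ((isColimitMapCoconeCoforkEquiv Y c.condition).symm (Cofork.IsColimit.mk' _ fun s => ?_))
      ((Cocone.functoriality _ Y).mapIso (Cofork.isoCoforkOfπ c).symm)
    have hsh := (Presieve.isSheafFor_iff_generate _).2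
      (((isSheaf_iff_isSheaf_of_type Jc s.pt.obj).1 s.pt.property) _ hcov)
    rw [Presieve.isSheafFor_singleton] at hsh
    have hE := hsh (yonedaEquiv s.π.hom) (fun {Z} q₁ q₂ h => by
      obtain ⟨l, hl₁, hl₂⟩ : ∃ l, l ≫ p₁ = q₁ ∧ l ≫ p₂ = q₂ :=
        ⟨hk'.lift q₁ q₂ h, hk'.lift_fst _ _ _, hk'.lift_snd _ _ _⟩
      have h0 : s.pt.obj.map p₁.op (yonedaEquiv s.π.hom) = s.pt.obj.map p₂.op (yonedaEquiv s.π.hom) := by
        rw [yonedaEquiv_naturality, yonedaEquiv_naturality]
        exact congrArg (fun t : (Y).obj R ⟶ s.pt => yonedaEquiv t.hom) s.condition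
      rw [← hl₁, ← hl₂, op_comp, op_comp, Functor.map_comp_apply, Functor.map_comp_apply, h0])
    let y := hE.choose
    have hy := hE.choose_spec.1
    have hyu := hE.choose_spec.2
    refine ⟨⟨yonedaEquiv.symm y⟩, ?_, fun {m} hm => ?_⟩
    · apply CategoryTheory.Sheaf.hom_ext
      apply yonedaEquiv.injective
      exact (yonedaEquiv_naturality _ _).symm.trans ((congrArg _ (Equiv.apply_symm_apply _ _)).trans hy)
    · apply CategoryTheory.Sheaf.hom_ext
      apply yonedaEquiv.injective
      refine (hyu _ ?_).trans (Equiv.apply_symm_apply _ _).symm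
      exact (yonedaEquiv_naturality _ _).trans (congrArg (fun t : (Y).obj X ⟶ s.pt => yonedaEquiv t.hom) hm)
  · rintro ⟨h⟩
    have h' : IsColimit (Cofork.ofπ ((Y).map c.π) (by rw [← Functor.map_comp, ← Functor.map_comp, c.condition]) :
        Cofork ((Y).map p₁) ((Y).map p₂)) :=
      isColimitMapCoconeCoforkEquiv Y c.condition (IsColimit.ofIsoColimit ((IsColimit.mapCoconeEquiv e) h)
        ((Cocone.functoriality _ Y).mapIso (Cofork.isoCoforkOfπ c)))
    have hRy : SGA4.IsEquivRel ((Y).map p₁) ((Y).map p₂) := by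
      intro T
      have key : ∀ (Z : Cᵒᵖ) (a b : T ⟶ (Y).obj R), a ≫ (Y).map p₁ = b ≫ (Y).map p₁ →
          a ≫ (Y).map p₂ = b ≫ (Y).map p₂ → ∀ t, a.hom.app Z t = b.hom.app Z t := fun Z a b h1 h2 t =>
        (hR Z.unop).1 (Prod.ext
          (ConcreteCategory.congr_hom (NatTrans.congr_app (congrArg (fun k : T ⟶ (Y).obj X => k.hom) h1) Z) t)
          (ConcreteCategory.congr_hom (NatTrans.congr_app (congrArg (fun k : T ⟶ (Y).obj X => k.hom) h2) Z) t))
      obtain ⟨sR, hs₁, hs₂⟩ := (hR R).2.symm (x := p₁) (y := p₂) ⟨𝟙 R, Category.id_comp _, Category.id_comp _⟩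
      obtain ⟨tR, ht₁, ht₂⟩ := (hR (pullback p₂ p₁)).2.trans (x := pullback.fst p₂ p₁ ≫ p₁)
        (y := pullback.fst p₂ p₁ ≫ p₂) (z := pullback.snd p₂ p₁ ≫ p₂) ⟨pullback.fst p₂ p₁, rfl, rfl⟩
        ⟨pullback.snd p₂ p₁, pullback.condition.symm, rfl⟩
      refine ⟨fun a b hab => ?_, fun a => ⟨a ≫ (Y).map r, ?_, ?_⟩, @fun a b hab => ?_, @fun a b d hab hbd => ?_⟩
      · simp only [Prod.mk.injEq] at hab
        apply CategoryTheory.Sheaf.hom_ext
        ext Z t
        exact key Z a b hab.1 hab.2 t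
      · rw [Category.assoc, ← Functor.map_comp, hr₁, CategoryTheory.Functor.map_id, Category.comp_id]
      · rw [Category.assoc, ← Functor.map_comp, hr₂, CategoryTheory.Functor.map_id, Category.comp_id]
      · obtain ⟨f, hf, hg⟩ := hab
        exact ⟨f ≫ (Y).map sR, by rw [Category.assoc, ← Functor.map_comp, hs₁, hg],
          by rw [Category.assoc, ← Functor.map_comp, hs₂, hf]⟩
      · obtain ⟨f, hf, hg⟩ := hab
        obtain ⟨f', hf', hg'⟩ := hbd
        have hP := (IsPullback.of_hasPullback p₂ p₁).map Y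
        refine ⟨hP.lift f f' (hg.trans hf'.symm) ≫ (Y).map tR, ?_, ?_⟩
        · rw [Category.assoc, ← Functor.map_comp, ht₁, Functor.map_comp, ← Category.assoc, hP.lift_fst, hf]
        · rw [Category.assoc, ← Functor.map_comp, ht₂, Functor.map_comp, ← Category.assoc, hP.lift_snd, hg']
    obtain ⟨B, π, hk, hp, hu⟩ := isEffectiveUniversal_of_isEquivRel _ _ hRy
    have hw : (Y).map p₁ ≫ π = (Y).map p₂ ≫ π := hp.w
    let ψ : (Y).obj c.pt ⟶ B := Cofork.IsColimit.desc h' π hw
    have hψ : (Y).map c.π ≫ ψ = π := Cofork.IsColimit.π_desc' h' π hw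
    let φ : B ⟶ (Y).obj c.pt := hp.desc ((Y).map c.π) ((Y).map c.π) (by rw [← Functor.map_comp, ← Functor.map_comp, c.condition])
    have hφ : π ≫ φ = (Y).map c.π := hp.inl_desc _ _ _
    let i : B ≅ (Y).obj c.pt :=
      { hom := φ
        inv := ψ
        hom_inv_id := hp.hom_ext (by rw [← Category.assoc, hφ, hψ, Category.comp_id])
          (by rw [← Category.assoc, hφ, hψ, Category.comp_id])
        inv_hom_id := Cofork.IsColimit.hom_ext h' (by
          show (Y).map c.π ≫ ψ ≫ φ = (Y).map c.π ≫ 𝟙 _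
          rw [← Category.assoc, hψ, hφ, Category.comp_id]) }
    have hk' : IsPullback p₁ p₂ c.π c.π := IsPullback.of_map Y c.condition
      (hk.of_iso (Iso.refl _) (Iso.refl _) (Iso.refl _) i (by simp) (by simp) (by simp [i, hφ]) (by simp [i, hφ]))
    haveI : Epi ((Y).map c.π) := Cofork.IsColimit.epi h'
    have hls := (CategoryTheory.Sheaf.isLocallySurjective_iff_epi ((Y).map c.π)).2 inferInstance
    have hcov : Sieve.generate (Presieve.singleton c.π) ∈ Jc c.pt := by
      refine (Jc).superset_covering ?_ (Presheaf.imageSieve_mem Jc ((Y).map c.π).hom (U := op c.pt) (𝟙 c.pt))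
      rintro Z g ⟨a, ha⟩
      exact ⟨X, a, c.π, Presieve.singleton_self _, ha.trans (Category.comp_id g)⟩
    refine ⟨c.pt, c.π, hk', hpo, fun B' g => ?_⟩
    rw [← Sieve.effectiveEpimorphic_singleton, Presieve.EffectiveEpimorphic.iff_forall_isSheafFor_yoneda]
    intro Z
    rw [Presieve.isSheafFor_iff_generate, ← Presieve.pullback_singleton g c.π, Sieve.pullbackArrows_comm]
    exact Sheaf.sheaf_for_finestTopology (P := yoneda.obj Z) (Set.range (yoneda (C := C)).obj) ⟨Z, rfl⟩ _ ((Jc).pullback_stable g hcov)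

end Groth.Agent.Giraud
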