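import Groth.Agent.Giraud.Glued
import Mathlib.CategoryTheory.Adjunction.Evaluation
import Mathlib.CategoryTheory.Limits.FunctorCategory.EpiMono

/-! # Functor categories into a topos are topoi -/

set_option autoImplicit false
set_option linter.all false
set_option backward.isDefEq.respectTransparency false
set_option backward.defeqAttrib.useBackward true

universe v u

open CategoryTheory CategoryTheory.Limits Opposite

namespace Groth.Agent.Giraud

variable {A : Type (u + 1)} [Category.{u} A] [HasFiniteLimits A] [HasColimitsOfSize.{u, u} A]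
  [HasColimitsOfShape WalkingSpan A] (HA : Exact A) {D : Type u} [SmallCategory D]

include HA

instance hasFiniteLimits_functor : HasFiniteLimits (D ⥤ A) := ⟨fun I _ _ => inferInstance⟩

lemma exact_functorCategory : Exact (D ⥤ A) where
  eff {R X p₁ p₂} e := by
    let π : X ⟶ pushout p₁ p₂ := pushout.inl p₁ p₂
    have hπ : pushout.inr p₁ p₂ = π := by
      have := congrArg (e.r ≫ ·) (pushout.condition (f := p₁) (g := p₂))
      simpa using this.symm
    have hpo : IsPushout p₁ p₂ π π := by
      have := IsPushout.of_hasPushout p₁ p₂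
      rwa [hπ] at this
    exact ⟨{ toEquivalenceRelation := e, B := _, π := π, isPushout := hpo
             isKernelPair := IsPullback.of_forall_isPullback_app (fun d =>
               (aux_quotient ((evaluation D A).obj d) HA e hpo).1) }⟩
  univ {X B B' P π g a b} hπ h := by
    have hk := IsPullback.of_hasPullback b b
    refine effectiveEpi_of_isPushout_kernelPair hk.w ?_
    refine ⟨⟨hk.w⟩, ⟨evaluationJointlyReflectsColimits _ (fun d => ?_)⟩⟩
    haveI : EffectiveEpi (((evaluation D A).obj d).map b) :=
      HA.univ (inferInstanceAs (Epi (π.app d))) (h.map ((evaluation D A).obj d))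
    exact (isColimitMapCoconePushoutCoconeEquiv _ hk.w).symm
      (isPushout_kernelPair_of_effectiveEpi (hk.map ((evaluation D A).obj d))).isColimit
  vk {κ F} c hc := isVanKampenColimit_of_evaluation F c (fun d => HA.vk _ (isColimitOfPreserves _ hc))

end Groth.Agent.Giraud

namespace Groth.Agent.Giraud

variable {C : Type u} [SmallCategory C] (J : GrothendieckTopology C) (D : Type u) [SmallCategory D]

noncomputable def pointFree (d : D) (c : C) : D ⥤ Sheaf J (Type u) :=
  (evaluationLeftAdjoint (Sheaf J (Type u)) d).obj (freeSheaf c)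

noncomputable def pointFreeEquiv (d : D) (c : C) (F : D ⥤ Sheaf J (Type u)) :
    (pointFree J D d c ⟶ F) ≃ (F.obj d).obj.obj (op c) :=
  ((evaluationAdjunctionRight (Sheaf J (Type u)) d).homEquiv (freeSheaf c) F).trans (freeSheafEquiv c _)

variable {J D}

lemma pointFreeEquiv_comp {d : D} {c : C} {F G : D ⥤ Sheaf J (Type u)} (t : pointFree J D d c ⟶ F) (φ : F ⟶ G) :
    pointFreeEquiv J D d c G (t ≫ φ) = (φ.app d).hom.app (op c) (pointFreeEquiv J D d c F t) := by
  refine Eq.trans (congrArg (freeSheafEquiv c _)
    ((evaluationAdjunctionRight (Sheaf J (Type u)) d).homEquiv_naturality_right t φ)) ?_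
  exact freeSheafEquiv_comp _ _

variable (J D)

theorem functor_sheaf_isTopos : SGA4.IsTopos.{u + 1, u} (D ⥤ Sheaf J (Type u)) := by
  let A := Sheaf J (Type u)
  have H : Exact (D ⥤ A) := exact_functorCategory (sheaf_exact J)
  have hiso : Conservative (𝟭 (D ⥤ A)) (𝟭 (D ⥤ A)) := fun X Y f h _ => h
  refine Axioms.isTopos
    { hb := hasDisjointUniversalCoproducts hiso H H
      hc := fun R X p₁ p₂ => isEffectiveUniversal hiso H H p₁ p₂
      ι := D × C
      G := fun p => pointFree J D p.1 p.2
      det := fun F G f h => ?_ }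
  haveI : ∀ d, IsIso (f.app d) := by
    intro d
    suffices h' : ∀ c : C, Function.Bijective ((f.app d).hom.app (op c)) by
      haveI : IsIso ((sheafToPresheaf J (Type u)).map (f.app d)) := by
        rw [NatTrans.isIso_iff_isIso_app]
        rintro ⟨c⟩
        exact (isIso_iff_bijective _).2 (h' c)
      exact isIso_of_reflects_iso _ (sheafToPresheaf J (Type u))
    intro c
    refine ⟨fun x y hxy => ?_, fun y => ?_⟩
    · have := (h ⟨d, c⟩ ((pointFreeEquiv J D d c F).symm x ≫ f)).unique (y₁ := (pointFreeEquiv J D d c F).symm x)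
        (y₂ := (pointFreeEquiv J D d c F).symm y) rfl (by
          apply (pointFreeEquiv J D d c G).injective
          rw [pointFreeEquiv_comp, pointFreeEquiv_comp, Equiv.apply_symm_apply, Equiv.apply_symm_apply, hxy])
      simpa using this
    · obtain ⟨t, ht, -⟩ := h ⟨d, c⟩ ((pointFreeEquiv J D d c G).symm y)
      exact ⟨pointFreeEquiv J D d c F t, (pointFreeEquiv_comp t f).symm.trans
        ((congrArg _ ht).trans (Equiv.apply_symm_apply _ _))⟩
  exact NatIso.isIso_of_isIso_app f

theorem functorCategory_isTopos {E : Type v} [Category.{u} E] (hE : SGA4.IsTopos E)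
    (D : Type u) [SmallCategory D] : SGA4.IsTopos (D ⥤ E) := by
  obtain ⟨C, _, J, ⟨e⟩⟩ := hE
  obtain ⟨C', hC', J', ⟨e'⟩⟩ := functor_sheaf_isTopos J D
  exact ⟨C', hC', J', ⟨(e.congrRight (E := D)).trans e'⟩⟩

end Groth.Agent.Giraud
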