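import Groth.Agent.Giraud.Glued
import Mathlib.CategoryTheory.Comma.Over.Pullback
import Mathlib.CategoryTheory.Adjunction.Triple
import Mathlib.CategoryTheory.Sites.Limits

/-! # The open subtopos and its closed complement -/

set_option autoImplicit false
set_option linter.all false
set_option backward.isDefEq.respectTransparency false
set_option backward.defeqAttrib.useBackward true

universe u

open CategoryTheory CategoryTheory.Limits Opposite

namespace Groth.Agent.Giraud

variable {C : Type u} [SmallCategory C] {J : GrothendieckTopology C}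


variable {U : (Sheaf J (Type u))} (hU : SGA4.IsOpen U)

include hU in
lemma hom_subsingleton {X : (Sheaf J (Type u))} (a b : X ⟶ U) : a = b := by
  haveI : Mono (terminal.from U) := hU
  exact (cancel_mono (terminal.from U)).1 (Subsingleton.elim _ _)

include hU in
lemma sections_subsingleton {c : Cᵒᵖ} (a b : U.obj.obj c) : a = b := by
  obtain ⟨c⟩ := c
  exact (freeSheafEquiv c U).symm.injective (hom_subsingleton hU _ _)

lemma sheaf_mono_app_injective {X Y : (Sheaf J (Type u))} (f : X ⟶ Y) [Mono f] (c : Cᵒᵖ) :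
    Function.Injective (f.hom.app c) :=
  (mono_iff_injective _).1 (inferInstanceAs (Mono (f.hom.app c)))

/-- elementwise sections of a binary product -/
lemma exists_prod_section {X Y : (Sheaf J (Type u))} (c : C) (x : X.obj.obj (op c)) (y : Y.obj.obj (op c)) :
    ∃ p : (X ⨯ Y).obj.obj (op c), (prod.fst : X ⨯ Y ⟶ X).hom.app (op c) p = x ∧
      (prod.snd : X ⨯ Y ⟶ Y).hom.app (op c) p = y := by
  refine ⟨freeSheafEquiv c _ (prod.lift ((freeSheafEquiv c X).symm x) ((freeSheafEquiv c Y).symm y)), ?_, ?_⟩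
  · rw [← freeSheafEquiv_comp, prod.lift_fst, Equiv.apply_symm_apply]
  · rw [← freeSheafEquiv_comp, prod.lift_snd, Equiv.apply_symm_apply]

lemma prod_section_ext {X Y : (Sheaf J (Type u))} {c : C} {p q : (X ⨯ Y).obj.obj (op c)}
    (h₁ : (prod.fst : X ⨯ Y ⟶ X).hom.app (op c) p = (prod.fst : X ⨯ Y ⟶ X).hom.app (op c) q)
    (h₂ : (prod.snd : X ⨯ Y ⟶ Y).hom.app (op c) p = (prod.snd : X ⨯ Y ⟶ Y).hom.app (op c) q) : p = q := by
  apply (freeSheafEquiv c _).symm.injective
  apply prod.hom_ext <;> apply (freeSheafEquiv c _).injective <;>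
    simp only [freeSheafEquiv_comp, Equiv.apply_symm_apply] <;> assumption

include hU in
/-- elementwise criterion for the closed complement -/
lemma closedCompl_iff (X : (Sheaf J (Type u))) :
    SGA4.closedCompl U X ↔ ∀ c : C, Nonempty (U.obj.obj (op c)) → Nonempty (Unique (X.obj.obj (op c))) := by
  constructor
  · intro h c ⟨u⟩
    haveI : IsIso (prod.fst : U ⨯ X ⟶ U) := h
    let x := ((inv (prod.fst : U ⨯ X ⟶ U)) ≫ prod.snd).hom.app (op c) u
    refine ⟨⟨⟨x⟩, fun y => ?_⟩⟩
    obtain ⟨p, h₁, h₂⟩ := exists_prod_section c u y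
    obtain ⟨q, k₁, k₂⟩ := exists_prod_section c u x
    have : p = q := sheaf_mono_app_injective (prod.fst : U ⨯ X ⟶ U) _ (h₁.trans k₁.symm)
    rw [← h₂, this, k₂]
    rfl
  · intro h
    haveI : Mono (prod.fst : U ⨯ X ⟶ U) := by
      apply (sheafToPresheaf J (Type u)).mono_of_mono_map
      rw [NatTrans.mono_iff_mono_app]
      rintro ⟨c⟩
      rw [mono_iff_injective]
      intro p q hpq
      obtain ⟨hx⟩ := h c ⟨(prod.fst : U ⨯ X ⟶ U).hom.app (op c) p⟩
      exact prod_section_ext hpq (hx.uniq _ |>.trans (hx.uniq _).symm)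
    refine isIso_of_mono_of_surjective _ (fun c u => ?_)
    obtain ⟨hx⟩ := h c ⟨u⟩
    obtain ⟨p, h₁, -⟩ := exists_prod_section c u hx.default
    exact ⟨p, h₁⟩

variable (U) in
abbrev Away (c : Cᵒᵖ) : Type u := ULift.{u} (PLift (¬ Nonempty (U.obj.obj c)))

variable (U) in
/-- the presheaf of "sections away from `U`" -/
def away : (Cᵒᵖ ⥤ Type u) ⥤ (Cᵒᵖ ⥤ Type u) where
  obj X :=
    { obj := fun c => Away U c → X.obj c
      map := fun {c c'} g => ↾(fun f h => X.map g (f ⟨⟨fun ⟨u⟩ => h.down.down ⟨U.obj.map g u⟩⟩⟩))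
      map_id := fun c => by ext f h; simp
      map_comp := fun g g' => by ext f h; simp }
  map {X Y} φ :=
    { app := fun c => ↾(fun f h => φ.app c (f h))
      naturality := fun c c' g => by ext f h; exact NatTrans.naturality_apply φ g _ }

instance : PreservesFiniteLimits (away U) := by
  refine ⟨fun I _ _ => preservesLimitsOfShape_of_evaluation _ _ (fun c => ?_)⟩
  exact preservesLimitsOfShape_of_natIso (F := (evaluation Cᵒᵖ (Type u)).obj c ⋙
    coyoneda.obj (op (Away U c)))
    (NatIso.ofComponents (fun X =>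
      { hom := ↾(fun f h => ((ConcreteCategory.hom (show (Away U c ⟶ X.obj c) from f)) h)), inv := ↾(fun f => ↾f), hom_inv_id := rfl, inv_hom_id := rfl }) (fun f => rfl))

variable (U) in
noncomputable def closedReflObj : (Sheaf J (Type u)) ⥤ (Sheaf J (Type u)) :=
  sheafToPresheaf J (Type u) ⋙ away U ⋙ presheafToSheaf J (Type u)

include hU in
lemma closed_closedReflObj (X : (Sheaf J (Type u))) : SGA4.closedCompl U ((closedReflObj U).obj X) := by
  rw [closedCompl_iff hU]
  rintro c ⟨u⟩
  let P := (away U).obj X.obj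
  let s₀ := (toSheafify J P).app (op c) (fun h => absurd ⟨u⟩ h.down.down)
  refine ⟨⟨⟨s₀⟩, fun s => ?_⟩⟩
  apply ((isSheaf_iff_isSheaf_of_type _ _).1 ((closedReflObj U).obj X).property _
    (Presheaf.imageSieve_mem J (toSheafify J P) (show (sheafify J P).obj (op c) from s))).isSeparatedFor.ext
  intro d g hg
  obtain ⟨t, ht⟩ := hg
  refine ht.symm.trans (Eq.trans (congrArg _ ?_) (NatTrans.naturality_apply (toSheafify J P) g.op _))
  funext h
  exact absurd ⟨U.obj.map g.op u⟩ h.down.down

noncomputable def closedRefl (hU : SGA4.IsOpen U) : (Sheaf J (Type u)) ⥤ (SGA4.closedCompl U).FullSubcategory :=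
  (SGA4.closedCompl U).lift (closedReflObj U) (closed_closedReflObj hU)

open Classical in
noncomputable def awayDesc (hU : SGA4.IsOpen U) {X Y : (Sheaf J (Type u))} (hY : SGA4.closedCompl U Y) (f : X ⟶ Y) :
    (away U).obj X.obj ⟶ Y.obj where
  app c := ↾(fun t => if h : Nonempty (U.obj.obj c) then ((closedCompl_iff hU Y).1 hY c.unop h).some.default
    else f.hom.app c (t ⟨⟨h⟩⟩))
  naturality c c' g := by
    ext t
    show dite _ _ _ = Y.obj.map g (dite _ _ _)
    by_cases h' : Nonempty (U.obj.obj c')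
    · obtain ⟨hy⟩ := (closedCompl_iff hU Y).1 hY c'.unop h'
      exact (hy.uniq _).trans (hy.uniq _).symm
    · have h : ¬ Nonempty (U.obj.obj c) := fun ⟨u⟩ => h' ⟨U.obj.map g u⟩
      rw [dif_neg h', dif_neg h]
      exact NatTrans.naturality_apply f.hom g _

variable (U) in
def awayUnit (X : Cᵒᵖ ⥤ Type u) : X ⟶ (away U).obj X where
  app c := ↾(fun x _ => x)
  naturality c c' g := by ext x; rfl

noncomputable def closedHomEquiv (hU : SGA4.IsOpen U) (X : (Sheaf J (Type u))) (Y : (Sheaf J (Type u))) (hY : SGA4.closedCompl U Y) :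
    ((closedReflObj U).obj X ⟶ Y) ≃ (X ⟶ Y) :=
  ((sheafificationAdjunction J (Type u)).homEquiv ((away U).obj X.obj) Y).trans
    { toFun := fun ψ => ⟨awayUnit U X.obj ≫ ψ⟩
      invFun := fun f => awayDesc hU hY f
      left_inv := fun ψ => by
        classical
        ext c t
        show dite _ _ _ = ψ.app c t
        split_ifs with h
        · exact ((((closedCompl_iff hU Y).1 hY c.unop h).some).uniq _).symm
        · exact congrArg (ψ.app c) (funext fun _ => rfl)
      right_inv := fun f => by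
        classical
        ext c x
        show dite _ _ _ = f.hom.app c x
        split_ifs with h
        · exact ((((closedCompl_iff hU Y).1 hY c.unop h).some).uniq _).symm
        · rfl }

noncomputable def closedUnit (U : (Sheaf J (Type u))) (X : (Sheaf J (Type u))) : X ⟶ (closedReflObj U).obj X :=
  ⟨awayUnit U X.obj ≫ toSheafify J _⟩

lemma closedUnit_naturality {X X' : (Sheaf J (Type u))} (f : X ⟶ X') :
    f ≫ closedUnit U X' = closedUnit U X ≫ (closedReflObj U).map f := by
  apply (sheafToPresheaf J (Type u)).map_injective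
  show f.hom ≫ awayUnit U X'.obj ≫ toSheafify J _ = (awayUnit U X.obj ≫ toSheafify J _) ≫ sheafifyMap J ((away U).map f.hom)
  rw [Category.assoc, ← toSheafify_naturality, ← Category.assoc, ← Category.assoc]
  rfl

lemma closedHomEquiv_apply (hU : SGA4.IsOpen U) {X Y : (Sheaf J (Type u))} (hY : SGA4.closedCompl U Y)
    (φ : (closedReflObj U).obj X ⟶ Y) : closedHomEquiv hU X Y hY φ = closedUnit U X ≫ φ := by
  apply (sheafToPresheaf J (Type u)).map_injective
  show awayUnit U X.obj ≫ _ = (awayUnit U X.obj ≫ toSheafify J _) ≫ φ.hom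
  rw [Category.assoc]
  congr 1

noncomputable def closedAdj (hU : SGA4.IsOpen U) : closedRefl hU ⊣ (SGA4.closedCompl U).ι :=
  Adjunction.mkOfHomEquiv
    { homEquiv := fun X Y =>
        { toFun := fun φ => closedUnit U X ≫ φ.hom
          invFun := fun f => ⟨(closedHomEquiv hU X Y.obj Y.property).symm f⟩
          left_inv := fun φ => by
            apply (SGA4.closedCompl U).ι.map_injective
            exact (Equiv.symm_apply_eq _).2 (closedHomEquiv_apply hU Y.property φ.hom).symm
          right_inv := fun f =>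
            (closedHomEquiv_apply hU Y.property _).symm.trans (Equiv.apply_symm_apply _ f) }
      homEquiv_naturality_left_symm := fun {X X' Y} f g => by
        apply (SGA4.closedCompl U).ι.map_injective
        refine (Equiv.symm_apply_eq _).2 ?_
        refine Eq.trans ?_ (closedHomEquiv_apply hU Y.property _).symm
        show f ≫ g = closedUnit U X ≫ (closedReflObj U).map f ≫ _
        rw [← Category.assoc, ← closedUnit_naturality, Category.assoc]
        congr 1
        exact ((closedHomEquiv_apply hU Y.property _).symm.trans (Equiv.apply_symm_apply _ g)).symm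
      homEquiv_naturality_right := fun {X Y Y'} f g => (Category.assoc (closedUnit U X) f.hom g.hom).symm }

instance : PreservesFiniteLimits (closedReflObj U) := by
  haveI : PreservesFiniteLimits (sheafToPresheaf J (Type u)) := by
    haveI : PreservesLimitsOfSize.{0, 0} (sheafToPresheaf J (Type u)) := (sheafificationAdjunction J (Type u)).rightAdjoint_preservesLimits
    infer_instance
  haveI : PreservesFiniteLimits (away U ⋙ presheafToSheaf J (Type u)) := comp_preservesFiniteLimits _ _
  exact comp_preservesFiniteLimits _ _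

lemma preservesFiniteLimits_closedRefl (hU : SGA4.IsOpen U) : PreservesFiniteLimits (closedRefl hU) := by
  haveI : PreservesFiniteLimits (closedRefl hU ⋙ (SGA4.closedCompl U).ι) :=
    inferInstanceAs (PreservesFiniteLimits (closedReflObj U))
  exact ⟨fun I _ _ => preservesLimitsOfShape_of_reflects_of_preserves (closedRefl hU) (SGA4.closedCompl U).ι⟩

section Adj

variable (hU : SGA4.IsOpen U) {L : (Sheaf J (Type u)) ⥤ (SGA4.closedCompl U).FullSubcategory}
  (adj : L ⊣ (SGA4.closedCompl U).ι)

noncomputable def fromU {Y : (Sheaf J (Type u))} (hY : SGA4.closedCompl U Y) : U ⟶ Y :=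
  letI : IsIso (prod.fst : U ⨯ Y ⟶ U) := hY
  inv (prod.fst : U ⨯ Y ⟶ U) ≫ prod.snd

lemma fromU_unique {Y : (Sheaf J (Type u))} (hY : SGA4.closedCompl U Y) (a : U ⟶ Y) : a = fromU hY := by
  haveI : IsIso (prod.fst : U ⨯ Y ⟶ U) := hY
  have : prod.lift (𝟙 U) a = inv (prod.fst : U ⨯ Y ⟶ U) := by
    rw [← cancel_mono (prod.fst : U ⨯ Y ⟶ U), prod.lift_fst, IsIso.inv_hom_id]
  rw [fromU, ← this, prod.lift_snd]

include hU in
lemma closed_pushout (X : (Sheaf J (Type u))) :
    SGA4.closedCompl U (pushout (prod.fst : U ⨯ X ⟶ U) (prod.snd : U ⨯ X ⟶ X)) := by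
  rw [closedCompl_iff hU]
  rintro c ⟨u⟩
  let P := pushout (prod.fst : U ⨯ X ⟶ U) (prod.snd : U ⨯ X ⟶ X)
  refine ⟨⟨⟨(pushout.inl _ _ : U ⟶ P).hom.app (op c) u⟩, fun s => ?_⟩⟩
  obtain ⟨R, hR, h⟩ := exists_cover_of_isColimit _ (pushoutIsPushout (prod.fst : U ⨯ X ⟶ U) (prod.snd : U ⨯ X ⟶ X)) s
  apply ((isSheaf_iff_isSheaf_of_type _ _).1 P.property _ hR).isSeparatedFor.ext
  intro d g hg
  obtain ⟨j, t, ht⟩ := h g hg
  refine ht.symm.trans (Eq.trans ?_ (NatTrans.naturality_apply (pushout.inl _ _ : U ⟶ P).hom g.op u))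
  rcases j with _ | _ | _
  · exact congrArg (fun z => (pushout.inl (prod.fst : U ⨯ X ⟶ U) prod.snd).hom.app (op d) z)
      (sections_subsingleton hU ((prod.fst : U ⨯ X ⟶ U).hom.app (op d) t) (U.obj.map g.op u))
  · exact congrArg _ (sections_subsingleton hU t _)
  · obtain ⟨p, hp₁, hp₂⟩ := exists_prod_section (X := U) (Y := X) d (U.obj.map g.op u) t
    show (pushout.inr (prod.fst : U ⨯ X ⟶ U) prod.snd).hom.app (op d) t = _
    rw [← hp₁, ← hp₂]
    exact (ConcreteCategory.congr_hom (congrArg (fun φ : (U ⨯ X) ⟶ P => (φ.hom.app (op d) : (U ⨯ X).obj.obj (op d) ⟶ P.obj.obj (op d)))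
      (pushout.condition (f := (prod.fst : U ⨯ X ⟶ U)) (g := (prod.snd : U ⨯ X ⟶ X)))) p).symm

include hU adj in
lemma nonempty_iso_pushout (X : (Sheaf J (Type u))) :
    Nonempty ((SGA4.closedCompl U).ι.obj (L.obj X) ≅ pushout (prod.fst : U ⨯ X ⟶ U) (prod.snd : U ⨯ X ⟶ X)) := by
  let P : (SGA4.closedCompl U).FullSubcategory := ⟨_, closed_pushout hU X⟩
  have hw : (prod.fst : U ⨯ X ⟶ U) ≫ fromU (L.obj X).property =
      prod.snd ≫ adj.unit.app X := by
    let ι' := (L.obj X)
    have h2 := (closedCompl_iff hU ι'.obj).1 ι'.property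
    ext ⟨c⟩ p
    obtain ⟨hx⟩ := h2 c ⟨(prod.fst : U ⨯ X ⟶ U).hom.app (op c) p⟩
    exact (hx.uniq _).trans (hx.uniq _).symm
  let a : P.obj ⟶ (L.obj X).obj := pushout.desc (fromU (L.obj X).property) (adj.unit.app X) hw
  let b : L.obj X ⟶ P := (adj.homEquiv X P).symm (pushout.inr _ _)
  refine ⟨⟨b.hom, a, ?_, ?_⟩⟩
  · suffices h : b ≫ (⟨a⟩ : P ⟶ L.obj X) = 𝟙 _ from congrArg InducedCategory.Hom.hom h
    apply (adj.homEquiv X _).injective
    rw [adj.homEquiv_naturality_right, Equiv.apply_symm_apply, adj.homEquiv_id]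
    exact pushout.inr_desc _ _ _
  · apply pushout.hom_ext
    · exact (fromU_unique (closed_pushout hU X) _).trans (fromU_unique (closed_pushout hU X) _).symm
    · rw [pushout.inr_desc_assoc, Category.comp_id]
      exact (adj.homEquiv_unit (f := b)).symm.trans (Equiv.apply_symm_apply _ _)

lemma isIso_star_map_iff {X Y : (Sheaf J (Type u))} (m : X ⟶ Y) :
    IsIso ((Over.star U).map m) ↔ IsIso (prod.map (𝟙 U) m) := by
  constructor
  · intro h
    exact inferInstanceAs (IsIso ((Over.forget U).map ((Over.star U).map m)))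
  · intro h
    haveI : IsIso ((Over.forget U).map ((Over.star U).map m)) := h
    exact isIso_of_reflects_iso _ (Over.forget U)

lemma isIso_star_map_of_closed {X Y : (Sheaf J (Type u))} (m : X ⟶ Y) (hX : SGA4.closedCompl U X)
    (hY : SGA4.closedCompl U Y) : IsIso ((Over.star U).map m) := by
  rw [isIso_star_map_iff]
  haveI : IsIso (prod.fst : U ⨯ X ⟶ U) := hX
  haveI : IsIso (prod.fst : U ⨯ Y ⟶ U) := hY
  haveI : IsIso (prod.map (𝟙 U) m ≫ (prod.fst : U ⨯ Y ⟶ U)) := by
    rw [prod.map_fst, Category.comp_id]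
    infer_instance
  exact IsIso.of_isIso_comp_right _ (prod.fst : U ⨯ Y ⟶ U)

/-- equality of two sections after applying the unit -/
lemma closedUnit_app_eq {X : (Sheaf J (Type u))} {c : C} {x y : X.obj.obj (op c)}
    (h : (closedUnit U X).hom.app (op c) x = (closedUnit U X).hom.app (op c) y) :
    ∃ R ∈ J c, ∀ ⦃d : C⦄ (g : d ⟶ c), R g → Nonempty (U.obj.obj (op d)) ∨ X.obj.map g.op x = X.obj.map g.op y := by
  refine ⟨_, Presheaf.equalizerSieve_mem J (toSheafify J ((away U).obj X.obj))
    ((awayUnit U X.obj).app (op c) x) ((awayUnit U X.obj).app (op c) y) h, fun d g hg => ?_⟩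
  by_cases hd : Nonempty (U.obj.obj (op d))
  · exact Or.inl hd
  · exact Or.inr (congrFun hg ⟨⟨hd⟩⟩)

/-- sections of the reflection come locally from the object or are supported on the open -/
lemma closedUnit_locally_surjective {X : (Sheaf J (Type u))} {c : C}
    (s : ((closedReflObj U).obj X).obj.obj (op c)) :
    ∃ R ∈ J c, ∀ ⦃d : C⦄ (g : d ⟶ c), R g → Nonempty (U.obj.obj (op d)) ∨
      ∃ x, (closedUnit U X).hom.app (op d) x = ((closedReflObj U).obj X).obj.map g.op s := by
  refine ⟨_, Presheaf.imageSieve_mem J (toSheafify J ((away U).obj X.obj))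
    (show (sheafify J ((away U).obj X.obj)).obj (op c) from s), ?_⟩
  rintro d g ⟨t, ht⟩
  by_cases hd : Nonempty (U.obj.obj (op d))
  · exact Or.inl hd
  · refine Or.inr ⟨t ⟨⟨hd⟩⟩, Eq.trans ?_ ht⟩
    exact congrArg ((toSheafify J ((away U).obj X.obj)).app (op d)) (funext fun _ => rfl)

include hU adj in
lemma isIso_of_isIso_star_of_isIso_refl {X Y : (Sheaf J (Type u))} (m : X ⟶ Y)
    (h₁ : IsIso ((Over.star U).map m)) (h₂ : IsIso (L.map m)) : IsIso m := by
  rw [isIso_star_map_iff] at h₁
  have h₃ : IsIso ((closedReflObj U).map m) := by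
    haveI := (NatIso.isIso_map_iff (adj.leftAdjointUniq (closedAdj hU)) m).1 h₂
    exact inferInstanceAs (IsIso ((SGA4.closedCompl U).ι.map ((closedRefl hU).map m)))
  have hinj : ∀ (c : C), Nonempty (U.obj.obj (op c)) → Function.Bijective (m.hom.app (op c)) := by
    rintro c ⟨u⟩
    haveI : IsIso ((prod.map (𝟙 U) m).hom.app (op c)) := inferInstance
    have hb : Function.Bijective ((prod.map (𝟙 U) m).hom.app (op c)) := (isIso_iff_bijective _).1 this
    have hc : ∀ p, (prod.snd : U ⨯ Y ⟶ Y).hom.app (op c) ((prod.map (𝟙 U) m).hom.app (op c) p) =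
        m.hom.app (op c) ((prod.snd : U ⨯ X ⟶ X).hom.app (op c) p) := fun p =>
      ConcreteCategory.congr_hom (congrArg (fun φ : U ⨯ X ⟶ Y => (φ.hom.app (op c) : (U ⨯ X).obj.obj (op c) ⟶ Y.obj.obj (op c))) (prod.map_snd (𝟙 U) m)) p
    refine ⟨fun x y hxy => ?_, fun y => ?_⟩
    · obtain ⟨p, hp₁, hp₂⟩ := exists_prod_section c u x
      obtain ⟨q, hq₁, hq₂⟩ := exists_prod_section c u y
      rw [← hp₂, ← hq₂]
      refine congrArg _ (hb.1 (prod_section_ext (sections_subsingleton hU _ _) ?_))
      rw [hc, hc, hp₂, hq₂, hxy]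
    · obtain ⟨q, -, hq⟩ := exists_prod_section c u y
      obtain ⟨p, rfl⟩ := hb.2 q
      exact ⟨_, (hc p).symm.trans hq⟩
  have hb' : ∀ c, Function.Bijective (((closedReflObj U).map m).hom.app (op c)) := fun c =>
    (isIso_iff_bijective _).1 inferInstance
  have hnat : ∀ (c : C) (x : X.obj.obj (op c)), (closedUnit U Y).hom.app (op c) (m.hom.app (op c) x) =
      ((closedReflObj U).map m).hom.app (op c) ((closedUnit U X).hom.app (op c) x) := fun c x =>
    ConcreteCategory.congr_hom (congrArg (fun φ : X ⟶ (closedReflObj U).obj Y => (φ.hom.app (op c) : X.obj.obj (op c) ⟶ _)) (closedUnit_naturality (U := U) m)) x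
  haveI : Sheaf.IsLocallyInjective m := ⟨fun {c} x y hxy => by
    obtain ⟨c⟩ := c
    obtain ⟨R, hR, h⟩ := closedUnit_app_eq (U := U)
      ((hb' c).1 ((hnat c x).symm.trans ((congrArg _ hxy).trans (hnat c y))))
    refine J.superset_covering ?_ hR
    intro d g hg
    rcases h g hg with hd | hd
    · refine (hinj d hd).1 ?_
      rw [NatTrans.naturality_apply, NatTrans.naturality_apply, hxy]
    · exact hd⟩
  haveI : Sheaf.IsLocallySurjective m := ⟨fun {c} y => by
    obtain ⟨s, hs⟩ := (hb' c).2 ((closedUnit U Y).hom.app (op c) y)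
    obtain ⟨R, hR, h⟩ := closedUnit_locally_surjective (U := U) s
    refine J.transitive hR _ (fun d g hg => ?_)
    rcases h g hg with hd | ⟨x, hx⟩
    · refine J.superset_covering ?_ (J.top_mem d)
      intro e k _
      exact (hinj e (hd.map (U.obj.map k.op))).2 _
    · have hy : (closedUnit U Y).hom.app (op d) (m.hom.app (op d) x) =
          (closedUnit U Y).hom.app (op d) (Y.obj.map g.op y) := by
        rw [hnat, hx, NatTrans.naturality_apply, hs, NatTrans.naturality_apply]
      obtain ⟨S, hS, h'⟩ := closedUnit_app_eq (U := U) hy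
      refine J.superset_covering ?_ hS
      intro e k hk
      rcases h' k hk with he | he
      · exact (hinj e he).2 _
      · refine ⟨X.obj.map k.op x, ?_⟩
        rw [NatTrans.naturality_apply, he, op_comp, Functor.map_comp_apply]⟩
  exact (Sheaf.isLocallyBijective_iff_isIso m).mp ⟨‹_›, ‹_›⟩

end Adj

end Groth.Agent.Giraud
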