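import Groth.Agent.Giraud.OpenClosed

/-! # Gluing a topos from an open subtopos and its closed complement -/

set_option autoImplicit false
set_option linter.all false
set_option backward.isDefEq.respectTransparency false
set_option backward.defeqAttrib.useBackward true

universe u

open CategoryTheory CategoryTheory.Limits Opposite

namespace Groth.Agent.Giraud

variable {C : Type u} [SmallCategory C] {J : GrothendieckTopology C} {U : Sheaf J (Type u)}
  (hU : SGA4.IsOpen U) [(Over.star U).IsLeftAdjoint]
  {L : Sheaf J (Type u) ⥤ (SGA4.closedCompl U).FullSubcategory} (adj : L ⊣ (SGA4.closedCompl U).ι)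

include hU in
lemma star_rightAdjoint_fullyFaithful : Nonempty (Over.star U).rightAdjoint.FullyFaithful := by
  let t : Adjunction.Triple (Over.forget U) (Over.star U) (Over.star U).rightAdjoint :=
    ⟨Over.forgetAdjStar U, Adjunction.ofIsLeftAdjoint (Over.star U)⟩
  exact ⟨t.fullyFaithfulEquiv
    { preimage := fun {A B} f => Over.homMk f (hom_subsingleton hU _ _) }⟩

noncomputable def toGlue :
    Sheaf J (Type u) ⥤ Comma (𝟭 (SGA4.closedCompl U).FullSubcategory) ((Over.star U).rightAdjoint ⋙ L) where
  obj X :=
    { left := L.obj X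
      right := (Over.star U).obj X
      hom := L.map ((Adjunction.ofIsLeftAdjoint (Over.star U)).unit.app X) }
  map {X Y} m :=
    { left := L.map m
      right := (Over.star U).map m
      w := by
        show L.map m ≫ L.map ((Adjunction.ofIsLeftAdjoint (Over.star U)).unit.app Y) =
          L.map ((Adjunction.ofIsLeftAdjoint (Over.star U)).unit.app X) ≫ L.map ((Over.star U).rightAdjoint.map ((Over.star U).map m))
        rw [← L.map_comp, ← L.map_comp]
        exact congrArg L.map ((Adjunction.ofIsLeftAdjoint (Over.star U)).unit.naturality m) }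

section

variable {adj}

/-- the candidate inverse -/
noncomputable abbrev glueBack (adj : L ⊣ (SGA4.closedCompl U).ι)
    (T : Comma (𝟭 (SGA4.closedCompl U).FullSubcategory) ((Over.star U).rightAdjoint ⋙ L)) : Sheaf J (Type u) :=
  pullback ((SGA4.closedCompl U).ι.map T.hom) (adj.unit.app ((Over.star U).rightAdjoint.obj T.right))

noncomputable def toLeft (adj : L ⊣ (SGA4.closedCompl U).ι)
    (T : Comma (𝟭 (SGA4.closedCompl U).FullSubcategory) ((Over.star U).rightAdjoint ⋙ L)) :
    L.obj (glueBack adj T) ⟶ T.left :=
  (adj.homEquiv _ _).symm (pullback.fst _ _)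

noncomputable def toRight (adj : L ⊣ (SGA4.closedCompl U).ι)
    (T : Comma (𝟭 (SGA4.closedCompl U).FullSubcategory) ((Over.star U).rightAdjoint ⋙ L)) :
    (Over.star U).obj (glueBack adj T) ⟶ T.right :=
  ((Adjunction.ofIsLeftAdjoint (Over.star U)).homEquiv _ _).symm (pullback.snd _ _)

lemma glue_square (adj : L ⊣ (SGA4.closedCompl U).ι)
    (T : Comma (𝟭 (SGA4.closedCompl U).FullSubcategory) ((Over.star U).rightAdjoint ⋙ L)) :
    toLeft adj T ≫ T.hom = L.map ((Adjunction.ofIsLeftAdjoint (Over.star U)).unit.app (glueBack adj T)) ≫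
      L.map ((Over.star U).rightAdjoint.map (toRight adj T)) := by
  rw [← L.map_comp]
  have h : (Adjunction.ofIsLeftAdjoint (Over.star U)).unit.app (glueBack adj T) ≫
      (Over.star U).rightAdjoint.map (toRight adj T) = pullback.snd _ _ := by
    exact (Adjunction.homEquiv_unit _ _ _ _).symm.trans (Equiv.apply_symm_apply _ _)
  rw [h]
  apply (adj.homEquiv _ _).injective
  rw [adj.homEquiv_naturality_right, toLeft, Equiv.apply_symm_apply, adj.homEquiv_unit]
  exact pullback.condition.trans (adj.unit.naturality _)

include hU in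
lemma preservesFiniteLimits_L (adj : L ⊣ (SGA4.closedCompl U).ι) : PreservesFiniteLimits L := by
  haveI := preservesFiniteLimits_closedRefl hU
  exact preservesFiniteLimits_of_natIso (adj.leftAdjointUniq (closedAdj hU)).symm

include hU in
lemma isIso_toLeft (adj : L ⊣ (SGA4.closedCompl U).ι)
    (T : Comma (𝟭 (SGA4.closedCompl U).FullSubcategory) ((Over.star U).rightAdjoint ⋙ L)) :
    IsIso (toLeft adj T) := by
  haveI := preservesFiniteLimits_L hU adj
  let R := (Over.star U).rightAdjoint.obj T.right
  haveI : IsIso (adj.counit.app (L.obj R)) := inferInstance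
  haveI : IsIso (L.map (adj.unit.app R)) := by
    have := adj.left_triangle_components R
    rw [← IsIso.eq_comp_inv] at this
    rw [this]
    exact IsIso.comp_isIso' (IsIso.id _) inferInstance
  have hp := (IsPullback.of_hasPullback ((SGA4.closedCompl U).ι.map T.hom) (adj.unit.app R)).map L
  haveI : IsIso (L.map (pullback.fst ((SGA4.closedCompl U).ι.map T.hom) (adj.unit.app R))) :=
    hp.isIso_fst_of_isIso
  rw [toLeft, adj.homEquiv_counit]
  infer_instance

include hU in
lemma isIso_toRight (adj : L ⊣ (SGA4.closedCompl U).ι)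
    (T : Comma (𝟭 (SGA4.closedCompl U).FullSubcategory) ((Over.star U).rightAdjoint ⋙ L)) :
    IsIso (toRight adj T) := by
  obtain ⟨hff⟩ := star_rightAdjoint_fullyFaithful (U := U) hU
  haveI := hff.full
  haveI := hff.faithful
  haveI : PreservesLimitsOfSize.{0, 0} (Over.star U) := (Over.forgetAdjStar U).rightAdjoint_preservesLimits
  haveI : IsIso ((Over.star U).map ((SGA4.closedCompl U).ι.map T.hom)) :=
    isIso_star_map_of_closed (((SGA4.closedCompl U).ι.map T.hom)) T.left.property (L.obj _).property
  have hp := (IsPullback.of_hasPullback ((SGA4.closedCompl U).ι.map T.hom)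
    (adj.unit.app ((Over.star U).rightAdjoint.obj T.right))).map (Over.star U)
  haveI : IsIso ((Over.star U).map (pullback.snd ((SGA4.closedCompl U).ι.map T.hom)
    (adj.unit.app ((Over.star U).rightAdjoint.obj T.right)))) := hp.isIso_snd_of_isIso
  rw [toRight, Adjunction.homEquiv_counit]
  infer_instance

noncomputable def toBack (adj : L ⊣ (SGA4.closedCompl U).ι) (X : Sheaf J (Type u)) :
    X ⟶ glueBack adj (toGlue.obj X) :=
  pullback.lift (adj.unit.app X) ((Adjunction.ofIsLeftAdjoint (Over.star U)).unit.app X)
    (adj.unit.naturality ((Adjunction.ofIsLeftAdjoint (Over.star U)).unit.app X)).symm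

include hU in
lemma isIso_toBack (adj : L ⊣ (SGA4.closedCompl U).ι) (X : Sheaf J (Type u)) : IsIso (toBack adj X) := by
  refine isIso_of_isIso_star_of_isIso_refl hU adj _ ?_ ?_
  · haveI := isIso_toRight hU adj ((toGlue (L := L)).obj X)
    have : (Over.star U).map (toBack adj X) ≫ toRight adj (toGlue.obj X) = 𝟙 _ := by
      apply ((Adjunction.ofIsLeftAdjoint (Over.star U)).homEquiv _ _).injective
      rw [Adjunction.homEquiv_naturality_left, toRight, Equiv.apply_symm_apply]
      exact (pullback.lift_snd _ _ _).trans ((Adjunction.ofIsLeftAdjoint (Over.star U)).homEquiv_id X).symm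
    exact IsIso.of_isIso_fac_right this
  · haveI := isIso_toLeft hU adj ((toGlue (L := L)).obj X)
    have : L.map (toBack adj X) ≫ toLeft adj (toGlue.obj X) = 𝟙 _ := by
      apply (adj.homEquiv _ _).injective
      rw [adj.homEquiv_naturality_left, toLeft, Equiv.apply_symm_apply]
      exact (pullback.lift_fst _ _ _).trans (adj.homEquiv_id X).symm
    exact IsIso.of_isIso_fac_right this

end

include hU adj in
theorem nonempty_glue_equiv : Nonempty (Sheaf J (Type u) ≌
    Comma (𝟭 (SGA4.closedCompl U).FullSubcategory) ((Over.star U).rightAdjoint ⋙ L)) := by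
  let jadj := Adjunction.ofIsLeftAdjoint (Over.star U)
  haveI : (toGlue (U := U) (L := L)).EssSurj := ⟨fun T => by
    haveI := isIso_toLeft hU adj T
    haveI := isIso_toRight hU adj T
    exact ⟨glueBack adj T, ⟨Comma.isoMk (asIso (toLeft adj T)) (asIso (toRight adj T))
      (by exact glue_square adj T)⟩⟩⟩
  have hkey : ∀ {X Y : Sheaf J (Type u)} (m : X ⟶ Y),
      m ≫ toBack adj Y ≫ pullback.fst _ _ = adj.homEquiv _ _ (L.map m) ∧
      m ≫ toBack adj Y ≫ pullback.snd _ _ = jadj.homEquiv _ _ ((Over.star U).map m) := by
    intro X Y m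
    constructor
    · rw [adj.homEquiv_unit, toBack, pullback.lift_fst]
      exact adj.unit.naturality m
    · rw [jadj.homEquiv_unit, toBack, pullback.lift_snd]
      exact jadj.unit.naturality m
  haveI : (toGlue (U := U) (L := L)).Faithful := ⟨fun {X Y f g} h => by
    haveI := isIso_toBack hU adj Y
    rw [← cancel_mono (toBack adj Y)]
    apply pullback.hom_ext <;> rw [Category.assoc, Category.assoc]
    · rw [(hkey f).1, (hkey g).1]
      exact congrArg _ (congrArg CommaMorphism.left h)
    · rw [(hkey f).2, (hkey g).2]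
      exact congrArg _ (congrArg CommaMorphism.right h)⟩
  haveI : (toGlue (U := U) (L := L)).Full := ⟨fun {X Y} φ => by
    haveI := isIso_toBack hU adj Y
    let a : X ⟶ (L.obj Y).obj := adj.homEquiv _ _ φ.left
    let b : X ⟶ (Over.star U).rightAdjoint.obj ((Over.star U).obj Y) := jadj.homEquiv _ _ φ.right
    have hw : a ≫ (SGA4.closedCompl U).ι.map (L.map (jadj.unit.app Y)) = b ≫ adj.unit.app _ := by
      refine (adj.homEquiv_naturality_right φ.left (L.map (jadj.unit.app Y))).symm.trans ?_
      have hb : b ≫ adj.unit.app _ = adj.homEquiv _ _ (L.map b) := by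
        rw [adj.homEquiv_unit]; exact adj.unit.naturality b
      rw [hb]
      refine congrArg _ ?_
      show φ.left ≫ ((toGlue (U := U) (L := L)).obj Y).hom = L.map (jadj.homEquiv _ _ φ.right)
      rw [jadj.homEquiv_unit, L.map_comp]
      exact φ.w
    let m : X ⟶ Y := pullback.lift a b hw ≫ inv (toBack adj Y)
    have hm : m ≫ toBack adj Y = pullback.lift a b hw := by simp [m]
    refine ⟨m, ?_⟩
    apply CommaMorphism.ext
    · apply (adj.homEquiv _ _).injective
      show adj.homEquiv _ _ (L.map m) = a
      rw [← (hkey m).1, ← Category.assoc, hm]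
      exact pullback.lift_fst _ _ _
    · apply (jadj.homEquiv _ _).injective
      show jadj.homEquiv _ _ ((Over.star U).map m) = b
      rw [← (hkey m).2, ← Category.assoc, hm]
      exact pullback.lift_snd _ _ _⟩
  haveI : (toGlue (U := U) (L := L)).IsEquivalence := {}
  exact ⟨(toGlue (U := U) (L := L)).asEquivalence⟩

end Groth.Agent.Giraud
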