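import Groth.Agent.Giraud.Cover
import Mathlib.CategoryTheory.Sites.SheafOfTypes
import Mathlib.CategoryTheory.Sites.Sheaf
import Mathlib.CategoryTheory.Sites.Types

/-! # The site of generators of a category satisfying the axioms of Giraud -/

set_option autoImplicit false
set_option linter.all false
set_option backward.isDefEq.respectTransparency false
set_option backward.defeqAttrib.useBackward true

universe v u

open CategoryTheory CategoryTheory.Limits Opposite

namespace Groth.Agent.Giraud.Axioms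

variable {E : Type v} [Category.{u} E] [HasFiniteLimits E] (S : Axioms E)

abbrev Gen : Type u := InducedCategory E S.G

def gen (U : S.Gen) : E := S.G U

def CovS {U : S.Gen} (R : Sieve U) : Prop :=
  Cov (fun p : Σ W, {g : W ⟶ U // R g} => p.2.1.hom)

/-- the sieve of morphisms factoring, after `x`, through a member of the family -/
def sieveOf {X : E} {κ : Type u} {Y : κ → E} (f : ∀ k, Y k ⟶ X) {U : S.Gen} (x : S.G U ⟶ X) : Sieve U where
  arrows W g := ∃ (k : κ) (a : S.G W ⟶ Y k), g.hom ≫ x = a ≫ f k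
  downward_closed {W Z g} hg e := by
    obtain ⟨k, a, ha⟩ := hg
    exact ⟨k, e.hom ≫ a, by show (e.hom ≫ g.hom) ≫ x = _; rw [Category.assoc, Category.assoc, ha]⟩

lemma covS_sieveOf {X : E} {κ : Type u} {Y : κ → E} {f : ∀ k, Y k ⟶ X} (hf : Cov f) {U : S.Gen}
    (x : S.G U ⟶ X) : S.CovS (S.sieveOf f x) := by
  intro M m hm h
  refine S.cov_pullback hf x M m hm (fun k => ?_)
  refine (S.cov_gen _).factors m _ (fun p => ?_)
  exact h ⟨p.1, InducedCategory.homMk (p.2 ≫ pullback.snd (f k) x), k, p.2 ≫ pullback.fst (f k) x, by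
    simp only [InducedCategory.homMk_hom, Category.assoc, pullback.condition]⟩

/-- the topology -/
def topology : GrothendieckTopology S.Gen where
  sieves U := {R | S.CovS R}
  top_mem' U := by
    intro M m hm h
    obtain ⟨l, hl⟩ := h ⟨U, 𝟙 U, trivial⟩
    exact ⟨l, by rw [← cancel_mono m, Category.assoc, hl]; exact (Category.comp_id _).trans (Category.id_comp _).symm, hl⟩
  pullback_stable' U V R g hR := by
    intro M m hm h
    refine S.covS_sieveOf hR g.hom M m hm ?_
    rintro ⟨W, e, ⟨T, k, hk⟩, a, ha⟩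
    refine h ⟨W, e, ?_⟩
    show R (e ≫ g)
    have : e ≫ g = InducedCategory.homMk a ≫ k := InducedCategory.hom_ext ha
    rw [this]
    exact R.downward_closed hk _
  transitive' U R hR R' hR' := by
    intro M m hm h
    refine hR M m hm ?_
    rintro ⟨V, g, hg⟩
    refine Cov.factors (hR' hg) m _ ?_
    rintro ⟨W, e, he⟩
    exact h ⟨W, e ≫ g, he⟩

lemma mem_topology {U : S.Gen} (R : Sieve U) : R ∈ S.topology U ↔ S.CovS R := Iff.rfl

lemma isSheaf_restrict (X : E) :
    Presheaf.IsSheaf S.topology ((inducedFunctor S.G).op ⋙ yoneda.obj X) := by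
  rw [isSheaf_iff_isSheaf_of_type]
  intro U R hR x hx
  obtain ⟨ψ, hψ⟩ := S.exists_desc (X := S.G U) (Z := X) hR (fun p => x p.2.1 p.2.2)
    (fun k l i a b hab => hx (InducedCategory.homMk (X := i) (Y := k.1) a) (InducedCategory.homMk (X := i) (Y := l.1) b) k.2.2 l.2.2
      (InducedCategory.hom_ext hab))
  refine ⟨ψ, fun W g hg => hψ ⟨W, g, hg⟩, fun y hy => ?_⟩
  exact Cov.hom_ext hR (fun p => (hy p.2.1 p.2.2).trans (hψ p).symm)

/-- the comparison functor -/
def toSheaf : E ⥤ Sheaf S.topology (Type u) where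
  obj X := ⟨(inducedFunctor S.G).op ⋙ yoneda.obj X, S.isSheaf_restrict X⟩
  map f := ⟨Functor.whiskerLeft (inducedFunctor S.G).op (yoneda.map f)⟩

instance : S.toSheaf.Faithful where
  map_injective {X Y f g} h := S.gen_hom_ext fun i t => by
    have := congrArg (fun η => (η.hom.app (op (show S.Gen from i))) t) h
    exact this

instance : S.toSheaf.Full where
  map_surjective {X Y} η := by
    obtain ⟨ψ, hψ⟩ := S.exists_desc (S.cov_gen X) (Z := Y)
      (fun p => η.hom.app (op (show S.Gen from p.1)) p.2) (fun k l i a b hab => by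
        have h1 := NatTrans.naturality_apply η.hom (InducedCategory.homMk (F := S.G) (X := i) (Y := k.1) a).op k.2
        have h2 := NatTrans.naturality_apply η.hom (InducedCategory.homMk (F := S.G) (X := i) (Y := l.1) b).op l.2
        exact h1.symm.trans ((congrArg _ hab).trans h2))
    refine ⟨ψ, ?_⟩
    ext ⟨U⟩ x
    exact hψ ⟨U, x⟩

section EssSurj

variable (F : Sheaf S.topology (Type u))

lemma sheafFor {U : S.Gen} {R : Sieve U} (hR : S.CovS R) : Presieve.IsSheafFor F.obj R.arrows :=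
  ((isSheaf_iff_isSheaf_of_type _ _).1 F.property) R hR

lemma sections_ext {U : S.Gen} {R : Sieve U} (hR : S.CovS R) {s t : F.obj.obj (op U)}
    (h : ∀ ⦃W⦄ (g : W ⟶ U), R g → F.obj.map g.op s = F.obj.map g.op t) : s = t :=
  (S.sheafFor F hR).isSeparatedFor.ext h

abbrev Elt : Type u := Σ U : S.Gen, F.obj.obj (op U)

noncomputable def total : E := (S.cofan (fun p : S.Elt F => S.G p.1)).pt

noncomputable def inj (p : S.Elt F) : S.G p.1 ⟶ S.total F := (S.cofan (fun p : S.Elt F => S.G p.1)).inj p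

lemma covS_inj {U : S.Gen} (x : S.G U ⟶ S.total F) : S.CovS (S.sieveOf (S.inj F) x) :=
  S.covS_sieveOf (cov_of_isColimit (S.cofanIsColimit _)) x

lemma inj_eq_inj {p q : S.Elt F} {U : S.Gen} (a : S.G U ⟶ S.G p.1) (b : S.G U ⟶ S.G q.1)
    (h : a ≫ S.inj F p = b ≫ S.inj F q) :
    F.obj.map (InducedCategory.homMk a).op p.2 = F.obj.map (InducedCategory.homMk b).op q.2 := by
  haveI := S.cofan_disjoint (fun p : S.Elt F => S.G p.1)
  by_cases hpq : p = q
  · subst hpq
    haveI : Mono (S.inj F p) := CoproductDisjoint.mono_inj (S.cofanIsColimit _) p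
    rw [(cancel_mono _).1 h]
  · let P := pullback (S.inj F p) (S.inj F q)
    have hP : IsInitial P :=
      IsInitial.ofCoproductDisjointOfIsColimitOfIsLimit hpq (S.cofanIsColimit _)
        (pullback.isLimit (S.inj F p) (S.inj F q))
    have hcov : Cov (κ := PEmpty.{u+1}) (Y := fun k => k.elim) (fun k => (k.elim : _ ⟶ P)) := by
      intro M m hm _
      exact ⟨hP.to M, by rw [← cancel_mono m, Category.assoc]; simp [hP.hom_ext (hP.to M ≫ m) (𝟙 P)],
        hP.hom_ext _ _⟩
    refine S.sections_ext F (S.covS_sieveOf hcov (pullback.lift a b h)) ?_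
    rintro W g ⟨k, -⟩
    exact k.elim

noncomputable def phi {U : S.Gen} (x : S.G U ⟶ S.total F) : F.obj.obj (op U) :=
  (S.sheafFor F (S.covS_inj F x)).amalgamate
    (fun W g hg => F.obj.map (InducedCategory.homMk hg.choose_spec.choose).op hg.choose.2) (by
      intro W₁ W₂ Z g₁ g₂ f₁ f₂ h₁ h₂ e
      have e1 := h₁.choose_spec.choose_spec
      have e2 := h₂.choose_spec.choose_spec
      rw [← FunctorToTypes.map_comp_apply, ← FunctorToTypes.map_comp_apply]
      refine S.inj_eq_inj F (g₁.hom ≫ h₁.choose_spec.choose) (g₂.hom ≫ h₂.choose_spec.choose) ?_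
      rw [Category.assoc, Category.assoc, ← e1, ← e2, ← Category.assoc, ← Category.assoc]
      exact congrArg (fun z => z.hom ≫ x) e)

lemma phi_spec {U : S.Gen} (x : S.G U ⟶ S.total F) {W : S.Gen} (g : W ⟶ U) (p : S.Elt F)
    (a : S.G W ⟶ S.G p.1) (h : g.hom ≫ x = a ≫ S.inj F p) :
    F.obj.map g.op (S.phi F x) = F.obj.map (InducedCategory.homMk a).op p.2 := by
  have hg : (S.sieveOf (S.inj F) x) g := ⟨p, a, h⟩
  refine ((S.sheafFor F (S.covS_inj F x)).valid_glue _ g hg).trans ?_
  exact S.inj_eq_inj F _ _ (hg.choose_spec.choose_spec.symm.trans h)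

lemma phi_naturality {U V : S.Gen} (e : V ⟶ U) (x : S.G U ⟶ S.total F) :
    S.phi F (e.hom ≫ x) = F.obj.map e.op (S.phi F x) := by
  refine S.sections_ext F (S.covS_inj F (e.hom ≫ x)) ?_
  rintro W g ⟨p, a, h⟩
  rw [S.phi_spec F _ g p a h, ← FunctorToTypes.map_comp_apply]
  exact (S.phi_spec F x (g ≫ e) p a ((Category.assoc _ _ _).trans h)).symm

lemma phi_inj (p : S.Elt F) : S.phi F (S.inj F p) = p.2 := by
  have := S.phi_spec F (S.inj F p) (𝟙 p.1) p (𝟙 _) rfl
  have e : (InducedCategory.homMk (F := S.G) (X := p.1) (Y := p.1) (𝟙 (S.G p.1))) = 𝟙 p.1 := rfl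
  rw [e] at this
  simpa using this

def Rel {T : E} (a b : T ⟶ S.total F) : Prop :=
  ∀ (U : S.Gen) (t : S.G U ⟶ T), S.phi F (t ≫ a) = S.phi F (t ≫ b)

lemma exists_rel : ∃ (R : E) (p₁ p₂ : R ⟶ S.total F),
    ∀ {T : E}, Function.Injective (fun l : T ⟶ R => (l ≫ p₁, l ≫ p₂)) ∧
      ∀ a b : T ⟶ S.total F, (∃ l : T ⟶ R, l ≫ p₁ = a ∧ l ≫ p₂ = b) ↔ S.Rel F a b := by
  let κ := Σ U : S.Gen, {c : (S.G U ⟶ S.total F) × (S.G U ⟶ S.total F) // S.phi F c.1 = S.phi F c.2}
  let f : ∀ k : κ, S.G k.1 ⟶ S.total F ⨯ S.total F := fun k => prod.lift k.2.1.1 k.2.1.2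
  let d : (S.cofan (fun k : κ => S.G k.1)).pt ⟶ S.total F ⨯ S.total F :=
    Cofan.IsColimit.desc (S.cofanIsColimit _) f
  obtain ⟨Q, π, m, hm, hd, hpo, hu⟩ := S.exists_image d
  have hfac : ∀ k : κ, ((S.cofan (fun k : κ => S.G k.1)).inj k ≫ π) ≫ m = f k := fun k => by
    rw [Category.assoc, hd]; exact Cofan.IsColimit.fac _ _ _
  have hcov : Cov (fun k : κ => (S.cofan (fun k : κ => S.G k.1)).inj k ≫ π) := by
    intro M n hn h
    obtain ⟨l, hl⟩ := (cov_of_isColimit (S.cofanIsColimit _)).factors n π h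
    have hr : hpo.desc l l (by rw [← cancel_mono n, Category.assoc, Category.assoc, hl, hpo.w]) ≫ n = 𝟙 Q := by
      apply hpo.hom_ext <;> simp [hl]
    exact ⟨_, by rw [← cancel_mono n, Category.assoc, hr, Category.comp_id, Category.id_comp], hr⟩
  refine ⟨Q, m ≫ prod.fst, m ≫ prod.snd, fun {T} => ⟨fun l l' h => ?_, fun a b => ⟨?_, fun h => ?_⟩⟩⟩
  · simp only [Prod.mk.injEq] at h
    rw [← cancel_mono m]
    apply prod.hom_ext <;> simp [h.1, h.2]
  · rintro ⟨l, rfl, rfl⟩ U t
    refine S.sections_ext F (S.covS_sieveOf hcov (t ≫ l)) ?_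
    rintro W g ⟨k, a, h⟩
    rw [← S.phi_naturality, ← S.phi_naturality]
    have h' : g.hom ≫ t ≫ l ≫ m = a ≫ f k := by
      rw [← hfac k, ← Category.assoc a, ← h]
      simp only [Category.assoc]
    have h1 : g.hom ≫ t ≫ l ≫ m ≫ prod.fst = a ≫ k.2.1.1 := by
      have := congrArg (· ≫ prod.fst) h'
      simpa [f] using this
    have h2 : g.hom ≫ t ≫ l ≫ m ≫ prod.snd = a ≫ k.2.1.2 := by
      have := congrArg (· ≫ prod.snd) h'
      simpa [f] using this
    rw [h1, h2]
    exact (S.phi_naturality F (InducedCategory.homMk a) k.2.1.1).trans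
      ((congrArg _ k.2.2).trans (S.phi_naturality F (InducedCategory.homMk a) k.2.1.2).symm)
  · obtain ⟨l, hl⟩ := (S.cov_gen T).factors m (prod.lift a b) (fun p => by
      let k : κ := ⟨p.1, (p.2 ≫ a, p.2 ≫ b), h p.1 p.2⟩
      exact ⟨(S.cofan (fun k : κ => S.G k.1)).inj k ≫ π, by
        rw [hfac]; apply prod.hom_ext <;> simp [f, k]⟩)
    exact ⟨l, by rw [reassoc_of% hl, prod.lift_fst], by rw [reassoc_of% hl, prod.lift_snd]⟩

lemma exists_quotient : ∃ (X : E) (π : S.total F ⟶ X),
    (∀ {T : E} (a b : T ⟶ S.total F), a ≫ π = b ≫ π ↔ S.Rel F a b) ∧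
      Cov (fun _ : PUnit.{u+1} => π) := by
  obtain ⟨R, p₁, p₂, h⟩ := S.exists_rel F
  have heq : SGA4.IsEquivRel p₁ p₂ := fun T => ⟨h.1,
    { refl := fun a => (h.2 a a).2 (fun U t => rfl)
      symm := fun {a b} e => (h.2 b a).2 (fun U t => (((h.2 a b).1 e) U t).symm)
      trans := fun {a b c} e e' => (h.2 a c).2 (fun U t => (((h.2 a b).1 e) U t).trans (((h.2 b c).1 e') U t)) }⟩
  obtain ⟨X, π, hpb, hpo, -⟩ := S.hc _ _ _ _ heq
  refine ⟨X, π, fun {T} a b => ⟨fun e => ?_, fun e => ?_⟩, fun M n hn h' => ?_⟩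
  · exact (h.2 a b).1 ⟨hpb.lift a b e, hpb.lift_fst _ _ _, hpb.lift_snd _ _ _⟩
  · obtain ⟨l, hl, hl'⟩ := (h.2 a b).2 e
    rw [← hl, ← hl', Category.assoc, Category.assoc, hpb.w]
  · obtain ⟨l, hl⟩ := h' PUnit.unit
    have hr : hpo.desc l l (by rw [← cancel_mono n, Category.assoc, Category.assoc, hl, hpo.w]) ≫ n = 𝟙 X := by
      apply hpo.hom_ext <;> simp [hl]
    exact ⟨_, by rw [← cancel_mono n, Category.assoc, hr, Category.comp_id, Category.id_comp], hr⟩

lemma essSurj : S.toSheaf.EssSurj where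
  mem_essImage F := by
    obtain ⟨X, π, hπ, hcov⟩ := S.exists_quotient F
    have hbij : ∀ U : S.Gen, Function.Bijective (fun s : F.obj.obj (op U) => S.inj F ⟨U, s⟩ ≫ π) := by
      intro U
      refine ⟨fun s t e => ?_, fun x => ?_⟩
      · have := (hπ _ _).1 e U (𝟙 _)
        erw [Category.id_comp, Category.id_comp] at this
        rw [S.phi_inj, S.phi_inj] at this
        exact this
      · have hR := S.covS_sieveOf hcov x
        have key : ∀ {W : S.Gen} (a b : S.G W ⟶ S.total F), a ≫ π = b ≫ π → S.phi F a = S.phi F b := by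
          intro W a b e
          simpa using (hπ a b).1 e W (𝟙 _)
        let fam : Presieve.FamilyOfElements F.obj (S.sieveOf (fun _ : PUnit.{u+1} => π) x).arrows :=
          fun W g hg => S.phi F hg.choose_spec.choose
        have hfam : fam.Compatible := by
          intro W₁ W₂ Z g₁ g₂ f₁ f₂ h₁ h₂ e
          show F.obj.map g₁.op (S.phi F _) = F.obj.map g₂.op (S.phi F _)
          rw [← S.phi_naturality, ← S.phi_naturality]
          apply key
          rw [Category.assoc, Category.assoc, ← h₁.choose_spec.choose_spec, ← h₂.choose_spec.choose_spec,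
            ← Category.assoc, ← Category.assoc]
          exact congrArg (fun z => z.hom ≫ x) e
        let s := (S.sheafFor F hR).amalgamate fam hfam
        refine ⟨s, Cov.hom_ext hR ?_⟩
        rintro ⟨W, g, hg⟩
        show g.hom ≫ S.inj F ⟨U, s⟩ ≫ π = g.hom ≫ x
        rw [hg.choose_spec.choose_spec, ← Category.assoc]
        refine (hπ _ _).2 (fun V t => ?_)
        have := S.phi_naturality F (InducedCategory.homMk (X := V) t) (g.hom ≫ S.inj F ⟨U, s⟩)
        refine this.trans (((congrArg _ ?_)).trans (S.phi_naturality F (InducedCategory.homMk (X := V) t) _).symm)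
        rw [S.phi_naturality, S.phi_inj]
        exact (S.sheafFor F hR).valid_glue hfam g hg
    suffices h : Nonempty (F.obj ≅ (S.toSheaf.obj X).obj) by
      exact ⟨X, ⟨((sheafToPresheaf S.topology (Type u)).preimageIso (X := F) (Y := S.toSheaf.obj X) h.some).symm⟩⟩
    refine ⟨NatIso.ofComponents (fun U => (Equiv.ofBijective _ (hbij U.unop)).toIso) ?_⟩
    rintro ⟨U⟩ ⟨V⟩ ⟨e⟩
    ext s
    show S.inj F ⟨V, F.obj.map e.op s⟩ ≫ π = e.hom ≫ S.inj F ⟨U, s⟩ ≫ π
    rw [← Category.assoc]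
    refine (hπ _ _).2 (fun W t => ?_)
    refine (S.phi_naturality F (InducedCategory.homMk (X := W) t) _).trans ?_
    refine (congrArg _ ?_).trans (S.phi_naturality F (InducedCategory.homMk (X := W) t) _).symm
    rw [S.phi_inj, S.phi_naturality, S.phi_inj]

end EssSurj

include S in
theorem isTopos : SGA4.IsTopos.{v, u} E := by
  haveI := S.essSurj
  haveI : S.toSheaf.IsEquivalence := {}
  exact ⟨S.Gen, inferInstance, S.topology, ⟨S.toSheaf.asEquivalence⟩⟩

end Groth.Agent.Giraud.Axioms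

namespace Groth.Agent.Giraud

variable {E : Type v} [Category.{u} E] [HasFiniteLimits E]

theorem isTopos_of_axioms (hb : SGA4.HasDisjointUniversalCoproducts.{v, u} E)
    (hc : ∀ (R A : E) (p₁ p₂ : R ⟶ A), SGA4.IsEquivRel p₁ p₂ → SGA4.IsEffectiveUniversalEquivRel p₁ p₂)
    (hd : ∃ P : ObjectProperty E, ObjectProperty.Small.{u} P ∧ P.IsDetecting) :
    SGA4.IsTopos.{v, u} E := by
  obtain ⟨P, hP, hdet⟩ := hd
  haveI : Small.{u} (Subtype P) := hP
  let e := equivShrink.{u} (Subtype P)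
  exact Axioms.isTopos
    { hb := hb
      hc := hc
      ι := Shrink.{u} (Subtype P)
      G := fun i => (e.symm i).1
      det := fun X Y f h => hdet f (fun G hG t => by
        have : (e.symm (e ⟨G, hG⟩)).1 = G := by simp
        obtain ⟨i, rfl⟩ : ∃ i, (e.symm i).1 = G := ⟨_, this⟩
        exact h i t) }

end Groth.Agent.Giraud
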